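import Mathlib
import Cfsg.Prelude.Def_Transfer

set_option autoImplicit false

/-! Groups in which abelian subgroups of equal order are conjugate. -/

namespace CfsgLib.BGroup

variable {G : Type*} [Group G] [Finite G]

/-- Abelian subgroups of equal order are conjugate. -/
def AbConj (G : Type*) [Group G] : Prop :=
  ∀ A B : Subgroup G, IsMulCommutative ↥A → IsMulCommutative ↥B → Nat.card ↥A = Nat.card ↥B →
    ∃ g : G, B = A.map (MulAut.conj g).toMonoidHom

theorem AbConj.mem_normal (hB : AbConj G) {M : Subgroup G} [M.Normal] {a m : G} (hm : m ∈ M)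
    (hord : orderOf m = orderOf a) : a ∈ M := by
  obtain ⟨g, hg⟩ := hB (Subgroup.zpowers m) (Subgroup.zpowers a) inferInstance inferInstance
    (by rw [Nat.card_zpowers, Nat.card_zpowers, hord])
  have ha : a ∈ Subgroup.zpowers a := Subgroup.mem_zpowers a
  rw [hg] at ha
  obtain ⟨z, hz, rfl⟩ := ha
  exact (inferInstance : M.Normal).conj_mem z ((Subgroup.zpowers_le.mpr hm) hz) g

/-- A `p`-subgroup is cyclic or contains commuting independent elements, or has exponent `p`
as soon as it contains an elementary abelian subgroup of order `p²`. -/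
theorem AbConj.exponent_of_elem_sq (hB : AbConj G) {p : ℕ} [hp : Fact p.Prime] {P : Subgroup G}
    (hP : IsPGroup p P) {E : Subgroup G} (hE : Cfsg.IsElementaryAbelian p E)
    (hEc : Nat.card E = p ^ 2) : ∀ x ∈ P, x ^ p = 1 := by
  intro x hx
  obtain ⟨j, hj⟩ := IsPGroup.iff_orderOf.mp hP ⟨x, hx⟩
  rw [Subgroup.orderOf_mk] at hj
  by_contra hne
  have hj2 : 2 ≤ j := by
    by_contra h
    exact hne (orderOf_dvd_iff_pow_eq_one.mp
      (hj ▸ (pow_dvd_pow p (by omega : j ≤ 1)).trans (by rw [pow_one])))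
  set y := x ^ p ^ (j - 2) with hy
  have hyo : orderOf y = p ^ 2 := by
    rw [hy, orderOf_pow_of_dvd (pow_ne_zero _ hp.out.ne_zero) (hj ▸ pow_dvd_pow p (by omega)), hj,
      Nat.pow_div (by omega) hp.out.pos]
    congr 1
    omega
  obtain ⟨g, hg⟩ := hB E (Subgroup.zpowers y) hE.1 inferInstance
    (by rw [hEc, Nat.card_zpowers, hyo])
  have hym : y ∈ Subgroup.zpowers y := Subgroup.mem_zpowers y
  rw [hg] at hym
  obtain ⟨z, hz, hzy⟩ := hym
  have hwp : y ^ p = 1 := by rw [← hzy, ← map_pow, hE.2 z hz, map_one]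
  have := Nat.le_of_dvd hp.out.pos (hyo ▸ orderOf_dvd_of_pow_eq_one hwp)
  have := hp.out.two_le
  nlinarith

/-- Two elements of order `p` generate, if they commute and are independent, order `p²`. -/
theorem card_pair {p : ℕ} [hp : Fact p.Prime] {z u : G} (hz : orderOf z = p) (hu : orderOf u = p)
    (hc : Commute z u) (hnot : u ∉ Subgroup.zpowers z) :
    Cfsg.IsElementaryAbelian p (Subgroup.closure ({z, u} : Set G)) ∧
      Nat.card (Subgroup.closure ({z, u} : Set G)) = p ^ 2 := by
  set E := Subgroup.closure ({z, u} : Set G) with hE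
  have hcom : IsMulCommutative E :=
    Subgroup.isMulCommutative_closure fun a ha b hb => by
      rcases ha with rfl | rfl <;> rcases hb with rfl | rfl <;>
        first | rfl | exact hc.eq | exact hc.eq.symm
  have hexp : ∀ x ∈ E, x ^ p = 1 := by
    intro x hx
    induction hx using Subgroup.closure_induction with
    | mem y hy =>
      rcases hy with rfl | rfl
      · rw [← hz, pow_orderOf_eq_one]
      · rw [← hu, pow_orderOf_eq_one]
    | one => exact one_pow _
    | mul a b ha hb h1 h2 =>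
      have : Commute a b := congrArg Subtype.val (hcom.is_comm.comm ⟨a, ha⟩ ⟨b, hb⟩)
      rw [this.mul_pow, h1, h2, one_mul]
    | inv a _ h1 => rw [inv_pow, h1, inv_one]
  refine ⟨⟨hcom, hexp⟩, ?_⟩
  have hle : Subgroup.zpowers z ⊔ Subgroup.zpowers u = E := by
    rw [Subgroup.zpowers_eq_closure, Subgroup.zpowers_eq_closure, ← Subgroup.closure_union,
      Set.singleton_union]
  have hdisj : Subgroup.zpowers z ⊓ Subgroup.zpowers u = ⊥ := by
    rw [eq_bot_iff]
    rintro w ⟨hw1, hw2⟩
    rw [Subgroup.mem_bot]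
    by_contra hw
    apply hnot
    have hwo : orderOf w = p :=
      (hp.out.eq_one_or_self_of_dvd _ (hu ▸ orderOf_dvd_of_mem_zpowers hw2)).resolve_left
        (fun h => hw (orderOf_eq_one_iff.mp h))
    have hle2 : Subgroup.zpowers w = Subgroup.zpowers u :=
      Subgroup.eq_of_le_of_card_ge (Subgroup.zpowers_le.mpr hw2)
        (by rw [Nat.card_zpowers, Nat.card_zpowers, hwo, hu])
    have : u ∈ Subgroup.zpowers w := hle2 ▸ Subgroup.mem_zpowers u
    exact (Subgroup.zpowers_le.mpr hw1) this
  let f : Subgroup.zpowers z × Subgroup.zpowers u → E := fun w =>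
    ⟨(w.1 : G) * w.2, hle ▸ Subgroup.mul_mem_sup w.1.2 w.2.2⟩
  have hf : Function.Bijective f := by
    constructor
    · intro a b h
      have h' : (a.1 : G) * a.2 = b.1 * b.2 := congrArg Subtype.val h
      have hd : (b.1 : G)⁻¹ * a.1 ∈ Subgroup.zpowers z ⊓ Subgroup.zpowers u := by
        refine ⟨Subgroup.mul_mem _ (Subgroup.inv_mem _ b.1.2) a.1.2, ?_⟩
        have : (b.1 : G)⁻¹ * a.1 = b.2 * (a.2 : G)⁻¹ := by
          rw [inv_mul_eq_iff_eq_mul, ← mul_assoc, ← h', mul_inv_cancel_right]
        rw [this]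
        exact Subgroup.mul_mem _ b.2.2 (Subgroup.inv_mem _ a.2.2)
      rw [hdisj, Subgroup.mem_bot, inv_mul_eq_one] at hd
      rw [← hd] at h'
      exact Prod.ext (Subtype.ext hd.symm) (Subtype.ext (mul_left_cancel h'))
    · rintro ⟨x, hx⟩
      suffices h : ∃ i k : ℤ, z ^ i * u ^ k = x by
        obtain ⟨i, k, rfl⟩ := h
        exact ⟨(⟨z ^ i, Subgroup.zpow_mem _ (Subgroup.mem_zpowers z) i⟩,
          ⟨u ^ k, Subgroup.zpow_mem _ (Subgroup.mem_zpowers u) k⟩), rfl⟩
      induction hx using Subgroup.closure_induction with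
      | mem y hy =>
        rcases hy with rfl | rfl
        · exact ⟨1, 0, by simp⟩
        · exact ⟨0, 1, by simp⟩
      | one => exact ⟨0, 0, by simp⟩
      | mul c d _ _ h1 h2 =>
        obtain ⟨i, k, rfl⟩ := h1
        obtain ⟨i', k', rfl⟩ := h2
        refine ⟨i + i', k + k', ?_⟩
        rw [zpow_add, zpow_add]
        calc z ^ i * z ^ i' * (u ^ k * u ^ k') = z ^ i * (z ^ i' * u ^ k) * u ^ k' := by group
          _ = z ^ i * (u ^ k * z ^ i') * u ^ k' := by rw [(hc.zpow_zpow i' k).eq]
          _ = _ := by group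
      | inv c _ h1 =>
        obtain ⟨i, k, rfl⟩ := h1
        exact ⟨-i, -k, by rw [(hc.zpow_zpow i k).eq, mul_inv_rev, zpow_neg, zpow_neg]⟩
  rw [← Nat.card_eq_of_bijective f hf, Nat.card_prod, Nat.card_zpowers, Nat.card_zpowers, hz, hu,
    pow_two]

/-- A `p`-subgroup of a `B`-group has a unique subgroup of order `p` or exponent `p`. -/
theorem AbConj.unique_or_exponent (hB : AbConj G) {p : ℕ} [hp : Fact p.Prime] {P : Subgroup G}
    (hP : IsPGroup p P) :
    (∀ a b : G, a ∈ P → b ∈ P → orderOf a = p → orderOf b = p →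
      Subgroup.zpowers a = Subgroup.zpowers b) ∨ (∀ x ∈ P, x ^ p = 1) := by
  by_contra hcon
  push Not at hcon
  obtain ⟨⟨a, b, ha, hb, hao, hbo, hab⟩, x, hx, hxp⟩ := hcon
  have : Nontrivial P := ⟨⟨a, ha⟩, 1, fun h => hp.out.ne_one (hao.symm.trans
    (orderOf_eq_one_iff.mpr (congrArg Subtype.val h)))⟩
  have := hP.center_nontrivial
  obtain ⟨z₀, hz₀⟩ := exists_prime_orderOf_dvd_card' p
    ((hP.to_subgroup (Subgroup.center P)).card_eq_or_dvd.resolve_left
      (fun h => by have := Finite.one_lt_card (α := Subgroup.center P); omega))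
  set z : G := ((z₀ : P) : G) with hz
  have hzo : orderOf z = p := by rw [hz, Subgroup.orderOf_coe, Subgroup.orderOf_coe, hz₀]
  obtain ⟨u, hu, huo, hun⟩ : ∃ u ∈ P, orderOf u = p ∧ u ∉ Subgroup.zpowers z := by
    have key : ∀ w : G, orderOf w = p → w ∈ Subgroup.zpowers z →
        Subgroup.zpowers w = Subgroup.zpowers z := fun w hw hm =>
      Subgroup.eq_of_le_of_card_ge (Subgroup.zpowers_le.mpr hm)
        (by rw [Nat.card_zpowers, Nat.card_zpowers, hw, hzo])
    by_cases h : a ∈ Subgroup.zpowers z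
    · exact ⟨b, hb, hbo, fun h2 => hab ((key a hao h).trans (key b hbo h2).symm)⟩
    · exact ⟨a, ha, hao, h⟩
  have hc : Commute z u :=
    (congrArg Subtype.val (Subgroup.mem_center_iff.mp z₀.2 ⟨u, hu⟩)).symm
  obtain ⟨hE, hEc⟩ := card_pair hzo huo hc hun
  exact hxp (hB.exponent_of_elem_sq hP hE hEc x hx)

omit [Finite G] in
/-- In a finite cyclic group a subgroup of smaller or equal order dividing is contained. -/
theorem le_of_card_dvd_of_cyclic {P : Type*} [Group P] [Finite P] [IsCyclic P] {H K : Subgroup P}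
    (h : Nat.card H ∣ Nat.card K) : H ≤ K := by
  classical
  have := Fintype.ofFinite P
  intro x hx
  have hsub : (Finset.univ.filter fun y : P => y ∈ K) ⊆
      (Finset.univ.filter fun y : P => y ^ Nat.card K = 1) := by
    intro y hy
    simp only [Finset.mem_filter, Finset.mem_univ, true_and] at hy ⊢
    exact orderOf_dvd_iff_pow_eq_one.mp (Subgroup.orderOf_dvd_natCard K hy)
  have heq := Finset.eq_of_subset_of_card_le hsub (by
    refine (IsCyclic.card_pow_eq_one_le Nat.card_pos).trans (le_of_eq ?_)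
    rw [Nat.card_eq_fintype_card]; exact Fintype.card_subtype _)
  have : x ∈ Finset.univ.filter fun y : P => y ^ Nat.card K = 1 := by
    simp only [Finset.mem_filter, Finset.mem_univ, true_and]
    exact orderOf_dvd_iff_pow_eq_one.mp ((Subgroup.orderOf_dvd_natCard H hx).trans h)
  rw [← heq] at this
  simpa using this

end CfsgLib.BGroup
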