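import Cfsg.Agent.S3927
import Cfsg.Agent.Lib.SchurCover.Universal
import Mathlib.GroupTheory.Schreier

/-!
An involutory automorphism `α` with `[G, α] = G`: the order of `G` is bounded in terms of the
number of elements of odd order inverted by `α`.
-/

set_option autoImplicit false

namespace CfsgLib.InvertedBound

open Subgroup
open scoped commutatorElement

universe u

variable {G : Type u} [Group G]

/-- The elements of odd order inverted by `α`. -/
abbrev J (α : MulAut G) : Type u := {g : G // Odd (orderOf g) ∧ α g = g⁻¹}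

/-- `c ↦ c * (α c)⁻¹`. -/
abbrev tw (α : MulAut G) : G → G := fun c => c * (α c)⁻¹

/-- An automorphism squaring to one with `[G, α] = G`. -/
structure Adm (α : MulAut G) : Prop where
  sq : ∀ x, α (α x) = x
  gen : closure (Set.range (tw α)) = ⊤

theorem tw_inverted {α : MulAut G} (h : Adm α) (c : G) : α (tw α c) = (tw α c)⁻¹ := by
  simp [tw, h.sq]

theorem tw_iterate {α : MulAut G} {y : G} (hy : α y = y⁻¹) (j : ℕ) :
    (tw α)^[j] y = y ^ 2 ^ j := by
  induction j with
  | zero => simp
  | succ j ih =>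
    rw [Function.iterate_succ_apply', ih]
    show y ^ 2 ^ j * (α (y ^ 2 ^ j))⁻¹ = _
    rw [map_pow, hy, inv_pow, inv_inv, pow_succ, mul_two, pow_add]

theorem odd_orderOf_pow [Finite G] (y : G) {j : ℕ} (hj : Nat.card G ≤ j) :
    Odd (orderOf (y ^ 2 ^ j)) := by
  set o := orderOf y with ho
  have ho0 : o ≠ 0 := (orderOf_pos y).ne'
  have hle : o.factorization 2 ≤ j := by
    refine le_trans ?_ hj
    exact le_trans (Nat.le_of_lt ((Nat.lt_pow_self one_lt_two).trans_le
      (Nat.le_of_dvd (Nat.pos_of_ne_zero ho0) (Nat.ordProj_dvd o 2)))) (orderOf_le_card ..)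
  have h1 : (y ^ 2 ^ j) ^ (o / 2 ^ o.factorization 2) = 1 := by
    rw [← pow_mul, ← orderOf_dvd_iff_pow_eq_one, ← ho]
    calc o = 2 ^ o.factorization 2 * (o / 2 ^ o.factorization 2) :=
          (Nat.mul_div_cancel' (Nat.ordProj_dvd o 2)).symm
      _ ∣ _ := Nat.mul_dvd_mul_right (pow_dvd_pow 2 hle) _
  refine Odd.of_dvd_nat ?_ (orderOf_dvd_of_pow_eq_one h1)
  rw [← Nat.not_even_iff_odd, even_iff_two_dvd]
  exact Nat.not_dvd_ordCompl Nat.prime_two ho0

theorem tw_iterate_mem [Finite G] {α : MulAut G} (h : Adm α) (c : G) {j : ℕ} (hj : Nat.card G < j) :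
    Odd (orderOf ((tw α)^[j] c)) ∧ α ((tw α)^[j] c) = ((tw α)^[j] c)⁻¹ := by
  obtain ⟨i, rfl⟩ : ∃ i, j = i + 1 := ⟨j - 1, by omega⟩
  rw [Function.iterate_succ_apply, tw_iterate (tw_inverted h c)]
  exact ⟨odd_orderOf_pow _ (by omega), by rw [map_pow, tw_inverted h c, inv_pow]⟩

theorem closure_inverted [Finite G] {α : MulAut G} (h : Adm α) :
    closure (Set.range (Subtype.val : J α → G)) = ⊤ := by
  rw [eq_top_iff, ← Cfsg.Agent.S3927.result α h.gen (Nat.card G + 1) (by omega)]
  refine closure_mono ?_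
  rintro _ ⟨c, rfl⟩
  exact ⟨⟨_, tw_iterate_mem h c (Nat.lt_succ_self _)⟩, rfl⟩

theorem mem_of_forall_commute [Finite G] {α : MulAut G} (h : Adm α) {x : G}
    (hx : ∀ y : J α, (y : G) * x = x * y) : x ∈ center G := by
  have hle : (⊤ : Subgroup G) ≤ centralizer ({x} : Set G) := by
    rw [← closure_inverted h, closure_le]
    rintro _ ⟨y, rfl⟩
    exact mem_centralizer_singleton_iff.2 (hx y)
  rw [mem_center_iff]
  exact fun g => mem_centralizer_singleton_iff.1 (hle (mem_top g))

theorem one_mem_J (α : MulAut G) : Odd (orderOf (1 : G)) ∧ α 1 = (1 : G)⁻¹ := by simp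

theorem orderOf_le_card_J [Finite G] {α : MulAut G} (y : J α) :
    orderOf (y : G) ≤ Nat.card (J α) := by
  rw [← Nat.card_zpowers]
  refine Nat.card_le_card_of_injective (fun z : zpowers (y : G) => (⟨(z : G), ?_, ?_⟩ : J α)) ?_
  · exact Odd.of_dvd_nat y.2.1 (orderOf_dvd_of_mem_zpowers z.2)
  · obtain ⟨i, hi⟩ := mem_zpowers_iff.1 z.2
    rw [← hi, map_zpow, y.2.2, inv_zpow]
  · intro a b hab
    exact Subtype.ext (congrArg (fun t : J α => (t : G)) hab :)

/-- Fixed elements of a subgroup meeting the centre trivially. -/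
theorem card_fixed_le [Finite G] {α : MulAut G} (h : Adm α) (K : Subgroup G)
    (hK : ∀ v ∈ K, α v = v) (hc : K ⊓ center G = ⊥) :
    Nat.card K ≤ Nat.card (J α) ^ Nat.card (J α) := by
  classical
  let _ := Fintype.ofFinite (J α)
  have hmem : ∀ (v : K) (y : J α),
      Odd (orderOf ((v : G) * y * (v : G)⁻¹)) ∧
        α ((v : G) * y * (v : G)⁻¹) = ((v : G) * y * (v : G)⁻¹)⁻¹ := by
    intro v y
    refine ⟨?_, ?_⟩
    · rw [show (v : G) * y * (v : G)⁻¹ = MulAut.conj (v : G) y from rfl, MulEquiv.orderOf_eq]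
      exact y.2.1
    · rw [map_mul, map_mul, map_inv, hK v v.2, y.2.2]; group
  refine le_trans (Nat.card_le_card_of_injective
    (fun v : K => (fun y : J α => (⟨_, hmem v y⟩ : J α))) ?_) (le_of_eq Nat.card_fun)
  intro v w hvw
  have hz : (w : G)⁻¹ * v ∈ K ⊓ center G := by
    refine ⟨K.mul_mem (K.inv_mem w.2) v.2, mem_of_forall_commute h fun y => ?_⟩
    have h1 : (v : G) * y * (v : G)⁻¹ = (w : G) * y * (w : G)⁻¹ :=
      congrArg Subtype.val (congrFun hvw y)
    calc (y : G) * ((w : G)⁻¹ * v) = (w : G)⁻¹ * ((w : G) * y * (w : G)⁻¹) * v := by group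
      _ = (w : G)⁻¹ * ((v : G) * y * (v : G)⁻¹) * v := by rw [h1]
      _ = _ := by group
  rw [hc, mem_bot, inv_mul_eq_one] at hz
  exact (Subtype.ext hz).symm

/-- The bound for a central extension. -/
noncomputable def schurBound (m B : ℕ) : ℕ :=
  ((Finset.range (B * B + 1)).sup cardCommutatorBound + 1) * m ^ m

theorem card_le_schurBound [Finite G] {α : MulAut G} (h : Adm α) {m B : ℕ}
    (hm : Nat.card (J α) ≤ m) (N : Subgroup G) (hN : N ≤ center G) (hB : N.index ≤ B) :
    Nat.card G ≤ schurBound m B := by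
  classical
  let _ := Fintype.ofFinite (J α)
  have hcs : Nat.card (commutatorSet G) ≤ B * B := by
    refine le_trans ?_ (Nat.mul_le_mul hB hB)
    rw [index_eq_card, ← Nat.card_prod]
    refine Nat.card_le_card_of_surjective
      (fun z => (⟨⁅z.1.out, z.2.out⁆, commutator_mem_commutatorSet z.1.out z.2.out⟩ : commutatorSet G)) ?_
    rintro ⟨_, a, b, rfl⟩
    refine ⟨((a : G ⧸ N), (b : G ⧸ N)), Subtype.ext ?_⟩
    exact (CfsgLib.SchurCover.commutator_congr_central
      (hN (QuotientGroup.eq.1 (QuotientGroup.out_eq' (a : G ⧸ N)).symm))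
      (hN (QuotientGroup.eq.1 (QuotientGroup.out_eq' (b : G ⧸ N)).symm)))
  have h1 : Nat.card (_root_.commutator G) ≤
      (Finset.range (B * B + 1)).sup cardCommutatorBound + 1 :=
    (card_commutator_le_of_finite_commutatorSet G).trans (le_trans
      (Finset.le_sup (f := cardCommutatorBound) (Finset.mem_range.2 (by omega))) (Nat.le_succ _))
  have h2 : Nat.card (Abelianization G) ≤ m ^ m := by
    let ψ : (∀ y : J α, Subgroup.zpowers (Abelianization.of (y : G))) →* Abelianization G :=
      { toFun := fun e => ∏ y, (e y : Abelianization G)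
        map_one' := by simp
        map_mul' := fun e e' => by simp [Finset.prod_mul_distrib] }
    have hs : Function.Surjective ψ := by
      rw [← MonoidHom.range_eq_top, eq_top_iff]
      intro q _
      obtain ⟨g, rfl⟩ := QuotientGroup.mk'_surjective _ q
      have hle : (⊤ : Subgroup G) ≤ ψ.range.comap Abelianization.of := by
        rw [← closure_inverted h, closure_le]
        rintro _ ⟨y, rfl⟩
        refine ⟨Pi.mulSingle (M := fun z : J α => Subgroup.zpowers (Abelianization.of (z : G))) y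
          ⟨_, mem_zpowers _⟩, ?_⟩
        simp only [ψ, MonoidHom.coe_mk, OneHom.coe_mk]
        rw [Finset.prod_eq_single y]
        · simp
        · intro z _ hz; simp [Pi.mulSingle_eq_of_ne hz]
        · simp
      exact hle (mem_top g)
    refine (Nat.card_le_card_of_surjective ψ hs).trans ?_
    rw [Nat.card_pi]
    have hm1 : 1 ≤ m := le_trans (Nat.one_le_iff_ne_zero.2 (Nat.card_ne_zero.2
      ⟨⟨⟨1, one_mem_J α⟩⟩, inferInstance⟩)) hm
    calc ∏ y : J α, Nat.card (Subgroup.zpowers (Abelianization.of (y : G)))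
        ≤ ∏ _y : J α, m := by
          refine Finset.prod_le_prod' fun y _ => ?_
          rw [Nat.card_zpowers]
          exact (Nat.le_of_dvd (orderOf_pos _) (orderOf_map_dvd _ _)).trans
            ((orderOf_le_card_J y).trans hm)
      _ = m ^ Nat.card (J α) := by rw [Finset.prod_const, Finset.card_univ, Nat.card_eq_fintype_card]
      _ ≤ m ^ m := Nat.pow_le_pow_right hm1 hm
  rw [← card_mul_index (_root_.commutator G), index_eq_card]
  exact Nat.mul_le_mul h1 h2

section Quotient

variable (N : Subgroup G) [N.Normal]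

/-- The induced automorphism of the quotient. -/
noncomputable def quotAut (α : MulAut G) (hN : N.map α.toMonoidHom = N) : MulAut (G ⧸ N) :=
  QuotientGroup.congr N N α hN

theorem quotAut_mk (α : MulAut G) (hN : N.map α.toMonoidHom = N) (x : G) :
    quotAut N α hN (x : G ⧸ N) = ((α x : G) : G ⧸ N) := rfl

theorem adm_quot {α : MulAut G} (h : Adm α) (hN : N.map α.toMonoidHom = N) :
    Adm (quotAut N α hN) := by
  refine ⟨fun x => ?_, ?_⟩
  · obtain ⟨g, rfl⟩ := QuotientGroup.mk_surjective x
    rw [quotAut_mk, quotAut_mk, h.sq]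
  · have e : Set.range (tw (quotAut N α hN)) = QuotientGroup.mk' N '' Set.range (tw α) := by
      ext z
      constructor
      · rintro ⟨x, rfl⟩
        obtain ⟨g, rfl⟩ := QuotientGroup.mk_surjective x
        exact ⟨_, ⟨g, rfl⟩, by simp [tw, quotAut_mk]⟩
      · rintro ⟨_, ⟨g, rfl⟩, rfl⟩
        exact ⟨(g : G ⧸ N), by simp [tw, quotAut_mk]⟩
    rw [e, ← MonoidHom.map_closure, h.gen, map_top_of_surjective _ (QuotientGroup.mk'_surjective N)]

/-- The induced map on odd inverted elements. -/
def quotJ {α : MulAut G} (hN : N.map α.toMonoidHom = N) (y : J α) : J (quotAut N α hN) :=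
  ⟨((y : G) : G ⧸ N), Odd.of_dvd_nat y.2.1 (orderOf_map_dvd (QuotientGroup.mk' N) _), by
    rw [quotAut_mk, y.2.2, QuotientGroup.mk_inv]⟩

theorem quotJ_surjective [Finite G] {α : MulAut G} (h : Adm α) (hN : N.map α.toMonoidHom = N) :
    Function.Surjective (quotJ N hN) := by
  rintro ⟨y, hy1, hy2⟩
  set k := Nat.card G + 1 with hk
  -- a `2 ^ k`-th root of `y`
  have hcop : Nat.Coprime (2 ^ k) (orderOf y) :=
    Nat.Coprime.pow_left k (Nat.coprime_two_left.2 hy1)
  obtain ⟨i, hi⟩ := exists_pow_eq_self_of_coprime hcop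
  set r := y ^ i with hr
  have hrk : r ^ 2 ^ k = y := by rw [hr, ← pow_mul, mul_comm, pow_mul]; exact hi
  have hrinv : quotAut N α hN r = r⁻¹ := by rw [hr, map_pow, hy2, inv_pow]
  obtain ⟨c, hc⟩ := QuotientGroup.mk_surjective r
  refine ⟨⟨_, tw_iterate_mem h c (j := k) (Nat.lt_succ_self _)⟩, Subtype.ext ?_⟩
  show (((tw α)^[k] c : G) : G ⧸ N) = y
  have hsemi : Function.Semiconj (QuotientGroup.mk' N) (tw α) (tw (quotAut N α hN)) := fun x => by
    simp [tw, quotAut_mk]
  have := hsemi.iterate_right k c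
  rw [QuotientGroup.mk'_apply, QuotientGroup.mk'_apply, hc, tw_iterate hrinv, hrk] at this
  exact this

end Quotient

/-- If the odd inverted elements inject into a quotient, the kernel is central. -/
theorem le_center_of_inj [Finite G] {α : MulAut G} (h : Adm α) (N : Subgroup G) [N.Normal]
    (hN : N.map α.toMonoidHom = N) (hinj : ∀ y y' : J α, (y : G)⁻¹ * y' ∈ N → y = y') :
    N ≤ center G := by
  -- conjugates by `v` of elements of `J` stay in the same fibre
  have key : ∀ v ∈ N, (∀ y : J α, α (v * y * v⁻¹) = (v * (y : G) * v⁻¹)⁻¹) → v ∈ center G := by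
    intro v hv hinv
    refine mem_of_forall_commute h fun y => ?_
    have hodd : Odd (orderOf (v * (y : G) * v⁻¹)) := by
      rw [show v * (y : G) * v⁻¹ = MulAut.conj v (y : G) from rfl, MulEquiv.orderOf_eq]
      exact y.2.1
    have hmem : (y : G)⁻¹ * (v * y * v⁻¹) ∈ N := by
      have h1 : (y : G)⁻¹ * v * y ∈ N := by
        simpa using (inferInstance : N.Normal).conj_mem v hv (y : G)⁻¹
      simpa [mul_assoc] using N.mul_mem h1 (N.inv_mem hv)
    have : (y : G) = v * y * v⁻¹ := congrArg Subtype.val (hinj y ⟨_, hodd, hinv y⟩ hmem)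
    calc (y : G) * v = v * (y : G) * v⁻¹ * v := by rw [← this]
      _ = v * y := by group
  -- inverted elements of `N` are central
  have hin : ∀ (k : ℕ) (r : G), orderOf r ≤ k → r ∈ N → α r = r⁻¹ → r ∈ center G := by
    intro k
    induction k with
    | zero => intro r hr; exact absurd hr (Nat.not_le.2 (orderOf_pos r))
    | succ k ih =>
      intro r hr hrN hrinv
      by_cases hodd : Odd (orderOf r)
      · have := hinj ⟨1, one_mem_J α⟩ ⟨r, hodd, hrinv⟩ (by simpa using hrN)
        have h1r : (1 : G) = r := congrArg Subtype.val this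
        rw [← h1r]
        exact one_mem _
      · have heven : 2 ∣ orderOf r := even_iff_two_dvd.1 (Nat.not_odd_iff_even.1 hodd)
        have hlt : orderOf (r ^ 2) ≤ k := by
          rw [orderOf_pow_of_dvd two_ne_zero heven]
          have := Nat.div_lt_self (orderOf_pos r) one_lt_two
          omega
        have hr2 := ih _ hlt (pow_mem hrN 2) (by rw [map_pow, hrinv, inv_pow])
        refine key r hrN fun y => ?_
        rw [map_mul, map_mul, map_inv, hrinv, y.2.2]
        have hc := mem_center_iff.1 hr2 (r⁻¹ * (y : G)⁻¹ * r⁻¹)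
        calc r⁻¹ * (y : G)⁻¹ * r⁻¹⁻¹ = r⁻¹ * (y : G)⁻¹ * r⁻¹ * r ^ 2 := by group
          _ = r ^ 2 * (r⁻¹ * (y : G)⁻¹ * r⁻¹) := hc
          _ = _ := by group
  intro v hv
  refine key v hv fun y => ?_
  have hαv : α v ∈ N := hN ▸ mem_map_of_mem _ hv
  have hz : v * (α v)⁻¹ ∈ center G :=
    hin _ _ le_rfl (N.mul_mem hv (N.inv_mem hαv)) (tw_inverted h v)
  rw [map_mul, map_mul, map_inv, y.2.2]
  have hc := mem_center_iff.1 hz ((α v) * (y : G)⁻¹ * (α v)⁻¹)
  calc α v * (y : G)⁻¹ * (α v)⁻¹
      = α v * (y : G)⁻¹ * (α v)⁻¹ * (v * (α v)⁻¹) * (v * (α v)⁻¹)⁻¹ := by group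
    _ = v * (α v)⁻¹ * (α v * (y : G)⁻¹ * (α v)⁻¹) * (v * (α v)⁻¹)⁻¹ := by rw [hc]
    _ = _ := by group

/-- The fibres of `tw` are cosets of the fixed points. -/
theorem card_le_image_mul [Finite G] [Fintype G] [DecidableEq G] (α : MulAut G) (M : Subgroup G)
    [DecidablePred (· ∈ M)] {c : ℕ}
    (hc : Nat.card (M ⊓ α.toMonoidHom.eqLocus (MonoidHom.id G) : Subgroup G) ≤ c) :
    Nat.card M ≤ ((Finset.univ.filter (· ∈ M)).image (tw α)).card * c := by
  classical
  rw [Nat.card_eq_fintype_card, Fintype.card_subtype]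
  rw [mul_comm]
  refine Finset.card_le_mul_card_image _ _ fun r hr => ?_
  obtain ⟨v, hv, rfl⟩ := Finset.mem_image.1 hr
  refine le_trans ?_ hc
  rw [Nat.card_eq_fintype_card, Fintype.card_subtype]
  refine Finset.card_le_card_of_injOn (fun w => v⁻¹ * w) ?_ (fun a _ b _ hab => mul_left_cancel hab)
  intro w hw
  simp only [Finset.coe_filter, Set.mem_setOf_eq, Finset.mem_filter, Finset.mem_univ, true_and] at hw hv ⊢
  refine ⟨M.mul_mem (M.inv_mem hv) hw.1, ?_⟩
  show α (v⁻¹ * w) = v⁻¹ * w
  have h2 : w * (α w)⁻¹ = v * (α v)⁻¹ := hw.2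
  rw [map_mul, map_inv]
  calc (α v)⁻¹ * α w = v⁻¹ * (v * (α v)⁻¹) * α w := by group
    _ = v⁻¹ * (w * (α w)⁻¹) * α w := by rw [h2]
    _ = _ := by group

/-- The Brauer–Fowler count. -/
theorem exists_centralizer_small [Finite G] {α : MulAut G} (h : Adm α) (M : Subgroup G)
    (hM : M.map α.toMonoidHom = M) {c : ℕ}
    (hc : Nat.card (M ⊓ α.toMonoidHom.eqLocus (MonoidHom.id G) : Subgroup G) ≤ c) :
    Nat.card M ≤ c ∨ ∃ x ∈ M, x ≠ 1 ∧
      Nat.card M ≤ 2 * c * c * Nat.card (M ⊓ centralizer ({x} : Set G) : Subgroup G) := by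
  classical
  let _ := Fintype.ofFinite G
  set C := M ⊓ α.toMonoidHom.eqLocus (MonoidHom.id G) with hC
  set R : Finset G := (Finset.univ.filter (· ∈ M)).image (tw α) with hR
  have hRM : ∀ r ∈ R, r ∈ M ∧ α r = r⁻¹ := by
    intro r hr
    obtain ⟨v, hv, rfl⟩ := Finset.mem_image.1 hr
    have hvM := (Finset.mem_filter.1 hv).2
    exact ⟨M.mul_mem hvM (M.inv_mem (hM ▸ mem_map_of_mem _ hvM)), tw_inverted h v⟩
  have hfib : Nat.card M ≤ R.card * c := card_le_image_mul α M hc
  by_cases hn : R.card ≤ 1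
  · exact Or.inl (hfib.trans (by simpa using Nat.mul_le_mul_right c hn))
  right
  push Not at hn
  have hMne : ∃ x ∈ Finset.univ.filter (fun x => x ∈ M ∧ x ≠ 1), ∀ y ∈ Finset.univ.filter
      (fun x => x ∈ M ∧ x ≠ 1), Nat.card (M ⊓ centralizer ({y} : Set G) : Subgroup G) ≤
        Nat.card (M ⊓ centralizer ({x} : Set G) : Subgroup G) := by
    refine Finset.exists_max_image _ _ ?_
    obtain ⟨a, ha, b, hb, hab⟩ := Finset.one_lt_card.1 hn
    refine ⟨a * b⁻¹, ?_⟩
    simp only [Finset.mem_filter, Finset.mem_univ, true_and]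
    exact ⟨M.mul_mem (hRM a ha).1 (M.inv_mem (hRM b hb).1), fun e => hab (mul_inv_eq_one.1 e)⟩
  obtain ⟨x, hx, hmax⟩ := hMne
  simp only [Finset.mem_filter, Finset.mem_univ, true_and] at hx hmax
  refine ⟨x, hx.1, hx.2, ?_⟩
  set K := Nat.card (M ⊓ centralizer ({x} : Set G) : Subgroup G) with hK
  -- count pairs
  set n := R.card with hn'
  have hone : ((R ×ˢ R).filter (fun q => q.1 * q.2⁻¹ = 1)).card ≤ n := by
    refine Finset.card_le_card_of_injOn Prod.fst ?_ ?_
    · intro q hq
      exact (Finset.mem_product.1 (Finset.mem_filter.1 hq).1).1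
    · intro q hq q' hq' e
      simp only [Finset.coe_filter, Set.mem_setOf_eq, Finset.mem_product] at hq hq'
      refine Prod.ext e ?_
      rw [← mul_inv_eq_one.1 hq.2, ← mul_inv_eq_one.1 hq'.2, e]
  have hother : ((R ×ˢ R).filter (fun q => ¬ q.1 * q.2⁻¹ = 1)).card ≤ K * Nat.card M := by
    have hMc : Nat.card M = (Finset.univ.filter (· ∈ M)).card := by
      rw [Nat.card_eq_fintype_card, Fintype.card_subtype]
    rw [hMc]
    refine (Finset.card_le_mul_card_image (f := fun q : G × G => q.1 * q.2⁻¹) _ K ?_).trans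
      (Nat.mul_le_mul_left _ (Finset.card_le_card ?_))
    · intro z hz
      obtain ⟨⟨r₀, s₀⟩, hq₀, rfl⟩ := Finset.mem_image.1 hz
      simp only [Finset.mem_filter, Finset.mem_product] at hq₀
      have hr₀ := hRM r₀ hq₀.1.1
      have hs₀ := hRM s₀ hq₀.1.2
      set x' := r₀⁻¹ * s₀ with hx'
      have hx'M : x' ∈ M := M.mul_mem (M.inv_mem hr₀.1) hs₀.1
      have hx'1 : x' ≠ 1 := fun e => hq₀.2 (by rw [inv_mul_eq_one.1 e, mul_inv_cancel])
      refine le_trans ?_ (hmax x' ⟨hx'M, hx'1⟩)
      rw [Nat.card_eq_fintype_card, Fintype.card_subtype]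
      refine Finset.card_le_card_of_injOn (fun q : G × G => r₀⁻¹ * q.1) ?_ ?_
      · intro q hq
        simp only [Finset.coe_filter, Set.mem_setOf_eq, Finset.mem_filter, Finset.mem_product,
          Finset.mem_univ, true_and] at hq ⊢
        have hr := hRM q.1 hq.1.1.1
        have hs := hRM q.2 hq.1.1.2
        refine ⟨M.mul_mem (M.inv_mem hr₀.1) hr.1, mem_centralizer_singleton_iff.2 ?_⟩
        have e1 : q.1⁻¹ * q.2 = x' := by
          have := congrArg α hq.2
          rw [map_mul, map_mul, map_inv, map_inv, hr.2, hs.2, hr₀.2, hs₀.2, inv_inv, inv_inv] at this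
          exact this
        calc r₀⁻¹ * q.1 * x' = r₀⁻¹ * q.2 := by rw [← e1]; group
          _ = r₀⁻¹ * ((q.1 * q.2⁻¹)⁻¹ * q.1) := by group
          _ = r₀⁻¹ * ((r₀ * s₀⁻¹)⁻¹ * q.1) := by rw [hq.2]
          _ = x' * (r₀⁻¹ * q.1) := by rw [hx']; group
      · intro q hq q' hq' e
        simp only [Finset.coe_filter, Set.mem_setOf_eq, Finset.mem_filter, Finset.mem_product] at hq hq'
        have e1 : q.1 = q'.1 := mul_left_cancel e
        refine Prod.ext e1 ?_
        have := hq.2.trans hq'.2.symm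
        rw [e1] at this
        exact inv_injective (mul_left_cancel this)
    · intro z hz
      obtain ⟨⟨r, s⟩, hq, rfl⟩ := Finset.mem_image.1 hz
      simp only [Finset.mem_filter, Finset.mem_product, Finset.mem_univ, true_and] at hq ⊢
      exact M.mul_mem (hRM r hq.1.1).1 (M.inv_mem (hRM s hq.1.2).1)
  have htot : n * n ≤ n + K * (n * c) := by
    rw [hn', ← Finset.card_product, ← Finset.card_filter_add_card_filter_not (s := R ×ˢ R)
      (fun q => q.1 * q.2⁻¹ = 1)]
    exact Nat.add_le_add hone (hother.trans (Nat.mul_le_mul_left K hfib))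
  have h3 : n ≤ 1 + K * c := by
    refine Nat.le_of_mul_le_mul_left ?_ (show 0 < n by omega)
    rw [show n * (1 + K * c) = n + K * (n * c) by ring]
    exact htot
  have h4 : n ≤ 2 * (K * c) := by omega
  calc Nat.card M ≤ n * c := hfib
    _ ≤ 2 * (K * c) * c := Nat.mul_le_mul_right c h4
    _ = 2 * c * c * K := by ring

/-- The bound. -/
theorem exists_bound : ∀ m : ℕ, ∃ B : ℕ, ∀ (G : Type u) [Group G] [Finite G] (α : MulAut G),
    Adm α → Nat.card (J α) ≤ m → Nat.card G ≤ B := by
  intro m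
  induction m with
  | zero =>
    refine ⟨0, fun G _ _ α _ hm => ?_⟩
    exact absurd hm (Nat.not_le.2 (Nat.card_pos_iff.2 ⟨⟨⟨1, one_mem_J α⟩⟩, inferInstance⟩))
  | succ m ih =>
    obtain ⟨B, hB⟩ := ih
    set c := (m + 1) ^ (m + 1) with hc
    set R := max (B * ((c + (m + 1)) * c)) (max (((B * (2 * c * c)).factorial) ^ 2) (max (schurBound (m + 1) B) 1)) with hR
    refine ⟨schurBound (m + 1) R, fun G _ _ α h hm => ?_⟩
    classical
    -- a maximal kernel with injective fibres
    let P : Set (Subgroup G) := {N | N.Normal ∧ N.map α.toMonoidHom = N ∧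
      ∀ y y' : J α, (y : G)⁻¹ * y' ∈ N → y = y'}
    obtain ⟨N, -, hmaxN⟩ := Finite.exists_le_maximal (p := fun N => N ∈ P) (a := (⊥ : Subgroup G))
      ⟨inferInstance, Subgroup.map_bot _, fun y y' hy => Subtype.ext (inv_mul_eq_one.1 hy)⟩
    obtain ⟨hNn, hNα, hNinj⟩ : N ∈ P := hmaxN.prop
    refine card_le_schurBound h hm N (le_center_of_inj h N hNα hNinj) ?_
    rw [index_eq_card]
    set β := quotAut N α hNα with hβ
    have hadm := adm_quot N h hNα
    have hmβ : Nat.card (J β) ≤ m + 1 :=
      (Nat.card_le_card_of_surjective _ (quotJ_surjective N h hNα)).trans hm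
    -- the minimal subgroup
    let P' : Set (Subgroup (G ⧸ N)) := {M | M.Normal ∧ M.map β.toMonoidHom = M ∧ M ≠ ⊥}
    rcases subsingleton_or_nontrivial (G ⧸ N) with hsub | hnt
    · rw [Nat.card_eq_one_iff_unique.2 ⟨hsub, inferInstance⟩]
      exact le_trans (le_max_right _ _) ((le_max_right _ _).trans (le_max_right _ _))
    obtain ⟨M, -, hminM⟩ := Finite.exists_le_minimal (p := fun M => M ∈ P') (a := (⊤ : Subgroup (G ⧸ N)))
      ⟨inferInstance, map_top_of_surjective _ β.surjective, top_ne_bot⟩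
    obtain ⟨hMn, hMα, hMne⟩ : M ∈ P' := hminM.prop
    -- the count drops
    have hdrop : Nat.card (J (quotAut M β hMα)) ≤ m := by
      set N' := M.comap (QuotientGroup.mk' N) with hN'
      have hN'n : N'.Normal := hMn.comap _
      have hN'α : N'.map α.toMonoidHom = N' := by
        refine eq_of_le_of_card_ge ?_ (le_of_eq (card_map_of_injective α.injective).symm)
        rintro _ ⟨x, hx, rfl⟩
        show ((α x : G) : G ⧸ N) ∈ M
        rw [← quotAut_mk N α hNα]
        exact hMα ▸ mem_map_of_mem _ (show ((x : G) : G ⧸ N) ∈ M from hx)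
      have hlt : N < N' := by
        refine lt_of_le_of_ne (fun x hx => ?_) fun e => hMne ?_
        · show ((x : G) : G ⧸ N) ∈ M
          rw [(QuotientGroup.eq_one_iff x).2 hx]; exact one_mem _
        · rw [eq_bot_iff]
          intro z hz
          obtain ⟨x, rfl⟩ := QuotientGroup.mk_surjective z
          have : x ∈ N' := hz
          rw [← e] at this
          exact (QuotientGroup.eq_one_iff x).2 this
      have hnot : ¬ ∀ y y' : J α, (y : G)⁻¹ * y' ∈ N' → y = y' := fun hall =>
        hlt.not_ge (hmaxN.le_of_ge ⟨hN'n, hN'α, hall⟩ hlt.le)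
      push Not at hnot
      obtain ⟨y, y', hy, hne⟩ := hnot
      have h1 : quotJ N hNα y ≠ quotJ N hNα y' := fun e => hne (hNinj y y'
        (QuotientGroup.eq.1 (congrArg Subtype.val e)))
      have h2 : quotJ M hMα (quotJ N hNα y) = quotJ M hMα (quotJ N hNα y') :=
        Subtype.ext (QuotientGroup.eq.2 (by
          show ((y : G) : G ⧸ N)⁻¹ * ((y' : G) : G ⧸ N) ∈ M
          exact hy))
      have hlt' : Nat.card (J (quotAut M β hMα)) < Nat.card (J β) := by
        refine lt_of_le_of_ne (Nat.card_le_card_of_surjective _ (quotJ_surjective M hadm hMα)) fun e => h1 ?_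
        exact ((Nat.bijective_iff_surjective_and_card _).2
          ⟨quotJ_surjective M hadm hMα, e.symm⟩).1 h2
      omega
    have hidx : M.index ≤ B := by
      rw [index_eq_card]
      exact hB _ _ (adm_quot M hadm hMα) hdrop
    have hmono : ∀ K : Subgroup (G ⧸ N), K.Normal → K.map β.toMonoidHom = K → K ≤ M → K = ⊥ ∨ K = M := by
      intro K hK hKα hKM
      by_cases hb : K = ⊥
      · exact Or.inl hb
      · exact Or.inr (le_antisymm hKM (hminM.le_of_le ⟨hK, hKα, hb⟩ hKM))
    by_cases hcen : M ⊓ center (G ⧸ N) = ⊥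
    swap
    · have hcα : (M ⊓ center (G ⧸ N)).map β.toMonoidHom = M ⊓ center (G ⧸ N) := by
        rw [Subgroup.map_inf M (center (G ⧸ N)) β.toMonoidHom β.injective, hMα]
        congr 1
        exact (Subgroup.characteristic_iff_map_eq.1 inferInstance β)
      rcases hmono _ inferInstance hcα inf_le_left with h0 | h0
      · exact absurd h0 hcen
      · refine (card_le_schurBound hadm hmβ M (h0.symm.le.trans inf_le_right) hidx).trans ?_
        exact le_trans (le_max_left _ _) ((le_max_right _ _).trans (le_max_right _ _))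
    have hfix : Nat.card (M ⊓ β.toMonoidHom.eqLocus (MonoidHom.id _) : Subgroup (G ⧸ N)) ≤ c := by
      refine (card_fixed_le hadm _ (fun v hv => (Subgroup.mem_inf.1 hv).2) ?_).trans ?_
      · rw [eq_bot_iff, ← hcen]
        exact inf_le_inf_right _ inf_le_left
      · exact (Nat.pow_le_pow_left hmβ _).trans (Nat.pow_le_pow_right (Nat.succ_pos m) hmβ)
    have hsmallcase : Nat.card M ≤ (c + (m + 1)) * c → Nat.card (G ⧸ N) ≤ R := fun hsm => by
      rw [← card_mul_index M, mul_comm]
      exact (Nat.mul_le_mul hidx hsm).trans (le_max_left _ _)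
    by_cases hab : ∀ a ∈ M, ∀ b ∈ M, a * b = b * a
    · let _ := Fintype.ofFinite (G ⧸ N)
      refine hsmallcase ((card_le_image_mul β M hfix).trans (Nat.mul_le_mul_right c ?_))
      set I := (Finset.univ.filter (· ∈ M)).image (tw β) with hI
      have hIM : ∀ r ∈ I, r ∈ M ∧ β r = r⁻¹ := by
        intro r hr
        obtain ⟨v, hv, rfl⟩ := Finset.mem_image.1 hr
        have hvM := (Finset.mem_filter.1 hv).2
        exact ⟨M.mul_mem hvM (M.inv_mem (hMα ▸ mem_map_of_mem _ hvM)), tw_inverted hadm v⟩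
      let Ω : Subgroup (G ⧸ N) :=
        { carrier := {a | a ∈ M ∧ a ^ 2 = 1}
          one_mem' := ⟨one_mem _, one_pow _⟩
          mul_mem' := fun {a b} ha hb => ⟨mul_mem ha.1 hb.1, by
            rw [(show Commute a b from hab a ha.1 b hb.1).mul_pow, ha.2, hb.2, mul_one]⟩
          inv_mem' := fun {a} ha => ⟨inv_mem ha.1, by rw [inv_pow, ha.2, inv_one]⟩ }
      have hΩn : Ω.Normal := ⟨fun a ha g => ⟨hMn.conj_mem a ha.1 g, by
        rw [conj_pow, ha.2, mul_one, mul_inv_cancel]⟩⟩
      have hΩα : Ω.map β.toMonoidHom = Ω := by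
        refine eq_of_le_of_card_ge ?_ (le_of_eq (card_map_of_injective β.injective).symm)
        rintro _ ⟨z, hz, rfl⟩
        exact ⟨hMα ▸ mem_map_of_mem _ hz.1, by
          show (β z) ^ 2 = 1
          rw [← map_pow, hz.2, map_one]⟩
      rcases hmono Ω hΩn hΩα (fun a ha => ha.1) with h0 | h0
      · -- odd order
        refine le_trans ?_ ((hmβ).trans (Nat.le_add_left _ _))
        rw [← Nat.card_eq_finsetCard]
        have hodd : ∀ r ∈ I, Odd (orderOf r) := by
          intro r hr
          by_contra hev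
          have h2 : 2 ∣ orderOf r := even_iff_two_dvd.1 (Nat.not_odd_iff_even.1 hev)
          have hz : r ^ (orderOf r / 2) ∈ Ω := ⟨pow_mem (hIM r hr).1 _, by
            rw [← pow_mul, Nat.div_mul_cancel h2, pow_orderOf_eq_one]⟩
          rw [h0, mem_bot, ← orderOf_dvd_iff_pow_eq_one] at hz
          have := Nat.le_of_dvd (Nat.div_pos (Nat.le_of_dvd (orderOf_pos r) h2) two_pos) hz
          have := Nat.div_lt_self (orderOf_pos r) one_lt_two
          omega
        exact Nat.card_le_card_of_injective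
          (fun r : I => (⟨r.1, hodd r.1 r.2, (hIM r.1 r.2).2⟩ : J β))
          (fun a b e => Subtype.ext (congrArg (fun t : J β => (t : G ⧸ N)) e :))
      · refine le_trans (le_trans ?_ hfix) (Nat.le_add_right _ _)
        rw [← Nat.card_eq_finsetCard]
        have hfx : ∀ r ∈ I, r ∈ M ⊓ β.toMonoidHom.eqLocus (MonoidHom.id _) := by
          intro r hr
          refine ⟨(hIM r hr).1, ?_⟩
          show β r = r
          have hr2 : r ^ 2 = 1 := ((h0.symm.le (hIM r hr).1 : r ∈ Ω)).2
          rw [(hIM r hr).2]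
          exact inv_eq_of_mul_eq_one_right (by rw [← sq, hr2])
        exact Nat.card_le_card_of_injective
          (fun r : I => (⟨r.1, hfx r.1 r.2⟩ : (M ⊓ β.toMonoidHom.eqLocus (MonoidHom.id _) : Subgroup (G ⧸ N))))
          (fun a b e => Subtype.ext (congrArg (fun t : (M ⊓ β.toMonoidHom.eqLocus (MonoidHom.id _) : Subgroup (G ⧸ N)) => (t : G ⧸ N)) e :))
    rcases exists_centralizer_small hadm M hMα hfix with hsmall | ⟨x, hxM, hx1, hbig⟩
    · exact hsmallcase (hsmall.trans (Nat.le_mul_of_pos_left c (by omega)))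
    set U := M ⊓ centralizer ({x} : Set (G ⧸ N)) with hU
    have hUi : U.index ≤ B * (2 * c * c) := by
      have h1 := card_mul_index M
      have h2 := card_mul_index U
      refine Nat.le_of_mul_le_mul_left ?_ (Nat.card_pos (α := U))
      rw [h2, ← h1]
      calc Nat.card M * M.index ≤ (2 * c * c * Nat.card U) * B := Nat.mul_le_mul hbig hidx
        _ = _ := by ring
    set V := U.normalCore with hV
    have hVi : V.index ≤ (B * (2 * c * c)).factorial := by
      rw [hV, normalCore_eq_ker, index_ker]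
      refine (card_le_card_group _).trans ?_
      rw [Nat.card_perm, ← index_eq_card]
      exact Nat.factorial_le hUi
    set W := V ⊓ V.map β.toMonoidHom with hW
    have hVn : (V.map β.toMonoidHom).Normal := (normalCore_normal U).map _ β.surjective
    have hWα : W.map β.toMonoidHom = W := by
      rw [hW, Subgroup.map_inf V (V.map β.toMonoidHom) β.toMonoidHom β.injective, Subgroup.map_map,
        show β.toMonoidHom.comp β.toMonoidHom = MonoidHom.id _ from MonoidHom.ext hadm.sq,
        Subgroup.map_id, inf_comm]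
    have hWM : W ≤ M := inf_le_left.trans ((normalCore_le U).trans inf_le_left)
    have hWbot : W = ⊥ := by
      refine (hmono W inferInstance hWα hWM).resolve_right fun e => ?_
      have hMU : M ≤ centralizer ({x} : Set (G ⧸ N)) :=
        e.symm.le.trans (inf_le_left.trans ((normalCore_le U).trans inf_le_right))
      -- `x` is central in `M`, so `Z(M)` is a nontrivial invariant subgroup
      set Z := M ⊓ centralizer (M : Set (G ⧸ N)) with hZ
      have hxZ : x ∈ Z := ⟨hxM, mem_centralizer_iff.2 fun w hw =>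
        mem_centralizer_singleton_iff.1 (hMU hw)⟩
      have hZn : Z.Normal := inferInstance
      have hZα : Z.map β.toMonoidHom = Z := by
        refine eq_of_le_of_card_ge ?_ (le_of_eq (card_map_of_injective β.injective).symm)
        rintro _ ⟨z, ⟨hz1, hz2⟩, rfl⟩
        refine ⟨hMα ▸ mem_map_of_mem _ hz1, mem_centralizer_iff.2 fun w hw => ?_⟩
        rw [← hMα] at hw
        obtain ⟨w', hw', rfl⟩ := hw
        rw [← map_mul, ← map_mul, mem_centralizer_iff.1 hz2 w' hw']
      rcases hmono Z hZn hZα inf_le_left with h0 | h0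
      · rw [h0] at hxZ; exact hx1 (mem_bot.1 hxZ)
      · exact hab fun a ha b hb => mem_centralizer_iff.1 ((h0.symm.le hb : b ∈ Z).2) a ha
    have h5 : W.index ≤ ((B * (2 * c * c)).factorial) ^ 2 := by
      refine index_inf_le.trans ?_
      rw [sq]
      exact Nat.mul_le_mul hVi ((index_map_equiv V β).trans_le hVi)
    rw [hWbot, index_bot] at h5
    exact h5.trans ((le_max_left _ _).trans (le_max_right _ _))

end CfsgLib.InvertedBound
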