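import Cfsg.Agent.Lib.Solvable.Zipper
import Cfsg.Agent.Lib.PLocal5.PGroupBasic
import Cfsg.Prelude.Def_Solvable

set_option autoImplicit false

/-! Baer: left Engel elements of a finite group form the Fitting subgroup; hypercentre criterion. -/

namespace CfsgLib.Engel

open scoped Pointwise

universe u

variable {G : Type u} [Group G]

/-- `[x, g]` with the convention `a b a⁻¹ b⁻¹`. -/
def commMap (g x : G) : G := x * g * x⁻¹ * g⁻¹

/-- `g` is a left Engel element. -/
def IsEngel (g : G) : Prop := ∀ x : G, ∃ n : ℕ, (commMap g)^[n] x = 1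

lemma foldl_replicate_eq (g x : G) (n : ℕ) :
    (List.replicate n g).foldl (fun a b => a * b * a⁻¹ * b⁻¹) x = (commMap g)^[n] x := by
  induction n generalizing x with
  | zero => rfl
  | succ n ih => rw [List.replicate_succ, List.foldl_cons, ih, Function.iterate_succ_apply]; rfl

lemma conj_iterate (h g x : G) (n : ℕ) :
    (commMap (h * g * h⁻¹))^[n] (h * x * h⁻¹) = h * (commMap g)^[n] x * h⁻¹ := by
  induction n generalizing x with
  | zero => rfl
  | succ n ih =>
    rw [Function.iterate_succ_apply, Function.iterate_succ_apply, ← ih]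
    congr 1
    simp only [commMap]
    group

lemma IsEngel.conj {g : G} (hg : IsEngel g) (h : G) : IsEngel (h * g * h⁻¹) := by
  intro x
  obtain ⟨n, hn⟩ := hg (h⁻¹ * x * h)
  refine ⟨n, ?_⟩
  have hx : x = h * (h⁻¹ * x * h) * h⁻¹ := by group
  rw [hx, conj_iterate, hn]
  group

lemma coe_iterate {V : Subgroup G} (g x : V) (n : ℕ) :
    (((commMap g)^[n] x : V) : G) = (commMap (g : G))^[n] (x : G) := by
  induction n generalizing x with
  | zero => rfl
  | succ n ih => rw [Function.iterate_succ_apply, Function.iterate_succ_apply, ih]; rfl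

lemma IsEngel.subgroup {V : Subgroup G} (g : V) (hg : IsEngel (g : G)) : IsEngel g := fun x => by
  obtain ⟨n, hn⟩ := hg x
  exact ⟨n, Subtype.ext (by rw [coe_iterate, hn]; rfl)⟩

lemma conj_smul_zpowers (h g : G) :
    MulAut.conj h • Subgroup.zpowers g = Subgroup.zpowers (h * g * h⁻¹) := by
  change (Subgroup.zpowers g).map (MulAut.conj h).toMonoidHom = _
  rw [MonoidHom.map_zpowers]
  rfl

lemma zpowers_subgroupOf {V : Subgroup G} (g : V) :
    (Subgroup.zpowers (g : G)).subgroupOf V = Subgroup.zpowers g := by
  have h : Subgroup.zpowers (g : G) = (Subgroup.zpowers g).map V.subtype := by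
    rw [MonoidHom.map_zpowers]; rfl
  rw [h, Subgroup.subgroupOf, Subgroup.comap_map_eq_self_of_injective V.subtype_injective]

theorem isSubnormal_zpowers_aux : ∀ (n : ℕ) (G : Type u) [Group G] [Finite G], Nat.card G ≤ n →
    ∀ g : G, IsEngel g → (Subgroup.zpowers g).IsSubnormal := by
  intro n
  induction n with
  | zero => intro G _ _ h; exact absurd Nat.card_pos (not_lt.mpr h)
  | succ n ih =>
    intro G _ _ hn g hg
    by_contra hcon
    set A := Subgroup.zpowers g with hA
    have hprop : ∀ V : Subgroup G, V ≠ ⊤ → ∀ h : G, h * g * h⁻¹ ∈ V →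
        CfsgLib.Zipper.SubnIn (MulAut.conj h • A) V := by
      intro V hV h hmem
      rw [hA, conj_smul_zpowers]
      refine ⟨Subgroup.zpowers_le.mpr hmem, ?_⟩
      rw [show h * g * h⁻¹ = ((⟨_, hmem⟩ : V) : G) from rfl, zpowers_subgroupOf]
      refine ih V ?_ ⟨_, hmem⟩ (IsEngel.subgroup _ (hg.conj h))
      have h1 := V.index_mul_card
      have h2 : 1 < V.index := by
        have := Subgroup.FiniteIndex.index_ne_zero (H := V)
        have := (Subgroup.index_eq_one (H := V)).not.mpr hV
        omega
      have h3 : 0 < Nat.card V := Nat.card_pos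
      nlinarith
    have hself : ∀ V : Subgroup G, V ≠ ⊤ → g ∈ V → CfsgLib.Zipper.SubnIn A V := by
      intro V hV hgV
      have := hprop V hV 1 (by simpa using hgV)
      simpa using this
    let U : Set (Subgroup G) := {V | g ∈ V ∧ V ≠ ⊤}
    have hAU : A ∈ U := ⟨Subgroup.mem_zpowers g, fun h => hcon (by rw [h]; exact .top)⟩
    have hnormal : ∀ J : Subgroup G, J.Normal → g ∈ J → J = ⊤ := by
      intro J hJ hgJ
      by_contra hJt
      exact hcon ((hself J hJt hgJ).isSubnormal_trans hJ.isSubnormal)
    let S : Subgroup G → Set (Subgroup G) :=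
      fun V => {B | (∃ h : G, B = MulAut.conj h • A) ∧ CfsgLib.Zipper.SubnIn B V}
    have h1 : ∀ V ∈ U, A ∈ S V := fun V hV => ⟨⟨1, by simp⟩, hself V hV.2 hV.1⟩
    obtain ⟨M, hMU, hM⟩ := CfsgLib.Zipper.exists_unique_maximal A U ⟨A, hAU⟩ S
      (fun V B => Iff.rfl) h1
      (fun V hV W _ B hB hBV => by
        obtain ⟨⟨h, rfl⟩, -⟩ := hB
        refine ⟨⟨h, rfl⟩, hprop V hV.2 h (hBV ?_)⟩
        rw [hA, conj_smul_zpowers]
        exact Subgroup.mem_zpowers _)
      (fun V hV W hW => by
        set J : Subgroup G := sSup (S V ∩ S W) with hJ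
        have hgJ : g ∈ J := (le_sSup (show A ∈ S V ∩ S W from ⟨h1 V hV, h1 W hW⟩))
          (Subgroup.mem_zpowers g)
        refine ⟨Subgroup.normalizer (J : Set G),
          ⟨Subgroup.le_normalizer hgJ, fun htop => ?_⟩, le_rfl⟩
        have hJn : J.Normal := Subgroup.normalizer_eq_top_iff.mp htop
        have := hnormal J hJn hgJ
        exact hV.2 (top_le_iff.mp (this ▸ sSup_le fun B hB => hB.1.2.1)))
    have key : ∀ h : G, h * g * h⁻¹ ∈ M → h ∈ M := by
      intro h hmem
      have hle : MulAut.conj h⁻¹ • M ≤ M := by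
        refine hM _ ⟨?_, ?_⟩
        · rw [Subgroup.mem_pointwise_smul_iff_inv_smul_mem]
          simpa [MulAut.smul_def, mul_assoc] using hmem
        · intro htop
          apply hMU.2
          rw [← inv_smul_smul (MulAut.conj h) M, ← map_inv, eq_top_iff]
          intro y _
          have : MulAut.conj h⁻¹ • (MulAut.conj h • M) = MulAut.conj h • (MulAut.conj h⁻¹ • M) := by
            rw [smul_smul, smul_smul, ← map_mul, ← map_mul, inv_mul_cancel, mul_inv_cancel]
          rw [this, htop, Subgroup.mem_pointwise_smul_iff_inv_smul_mem]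
          exact Subgroup.mem_top _
      have heq : MulAut.conj h⁻¹ • M = M := by
        refine Subgroup.eq_of_le_of_card_ge hle (le_of_eq ?_)
        exact (Nat.card_congr (Subgroup.equivSMul (MulAut.conj h⁻¹) M).toEquiv)
      have hN : Subgroup.normalizer (M : Set G) ∈ U := by
        refine ⟨Subgroup.le_normalizer hMU.1, fun htop => ?_⟩
        exact hMU.2 (hnormal M (Subgroup.normalizer_eq_top_iff.mp htop) hMU.1)
      have := hM _ hN (CfsgLib.Zipper.mem_normalizer_of_smul_eq heq)
      simpa using M.inv_mem this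
    apply hMU.2
    rw [eq_top_iff]
    intro x _
    have hb : ∀ k : ℕ, ∀ y : G, (commMap g)^[k] y = 1 → y * g ∈ M := by
      intro k
      induction k with
      | zero => intro y hy; rw [show y = 1 from hy, one_mul]; exact hMU.1
      | succ k ihk =>
        intro y hy
        rw [Function.iterate_succ_apply] at hy
        have h2 := ihk _ hy
        apply key
        have h3 : y * g * g * (y * g)⁻¹ = commMap g y * g := by simp only [commMap]; group
        rw [h3]; exact h2
    obtain ⟨k, hk⟩ := hg x
    simpa using M.mul_mem (hb k x hk) (M.inv_mem hMU.1)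

theorem mem_fitting_iff_engel [Finite G] (g : G) : g ∈ Cfsg.fittingSubgroup G ↔ IsEngel g := by
  constructor
  · intro hg x
    have hn := CfsgLib.Fitting.fitting_isNilpotent (G := G)
    obtain ⟨n, hn⟩ := Subgroup.nilpotent_iff_lowerCentralSeries.mp hn
    have hF : (Cfsg.fittingSubgroup G).Normal := CfsgLib.Fitting.fitting_normal
    have h1 : commMap g x ∈ Cfsg.fittingSubgroup G := by
      simp only [commMap]
      exact Subgroup.mul_mem _ (hF.conj_mem g hg x) (Subgroup.inv_mem _ hg)
    have hi : ∀ k, (commMap (⟨g, hg⟩ : Cfsg.fittingSubgroup G))^[k] ⟨_, h1⟩ ∈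
        (⊤ : Subgroup (Cfsg.fittingSubgroup G)).lowerCentralSeries k := by
      intro k
      induction k with
      | zero => simp
      | succ k ihk =>
        rw [Function.iterate_succ_apply', Subgroup.lowerCentralSeries_succ]
        exact Subgroup.commutator_mem_commutator ihk (Subgroup.mem_top _)
    refine ⟨n + 1, ?_⟩
    have := hi n
    rw [hn, Subgroup.mem_bot] at this
    have h2 := congrArg Subtype.val this
    rw [coe_iterate] at h2
    rw [Function.iterate_succ_apply]
    exact h2
  · intro hg
    have hnil : Group.IsNilpotent (Subgroup.zpowers g) := by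
      let : CommGroup (Subgroup.zpowers g) := IsCyclic.commGroup
      infer_instance
    exact CfsgLib.Fitting.subnormal_nilpotent_le_fitting
      (isSubnormal_zpowers_aux (Nat.card G) G le_rfl g hg) hnil (Subgroup.mem_zpowers g)

/-- `g` generates a nilpotent subgroup with every element. -/
def NilpotentWithAll (g : G) : Prop :=
  ∀ x : G, Group.IsNilpotent ↥(Subgroup.closure ({x, g} : Set G))

lemma NilpotentWithAll.engel {g : G} (h : NilpotentWithAll g) : IsEngel g := by
  intro x
  set H := Subgroup.closure ({x, g} : Set G) with hH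
  have hx : x ∈ H := Subgroup.subset_closure (by simp)
  have hg : g ∈ H := Subgroup.subset_closure (by simp)
  obtain ⟨n, hn⟩ := Subgroup.nilpotent_iff_lowerCentralSeries.mp (h x)
  have hi : ∀ k, (commMap (⟨g, hg⟩ : H))^[k] ⟨x, hx⟩ ∈ (⊤ : Subgroup H).lowerCentralSeries k := by
    intro k
    induction k with
    | zero => simp
    | succ k ihk =>
      rw [Function.iterate_succ_apply', Subgroup.lowerCentralSeries_succ]
      exact Subgroup.commutator_mem_commutator ihk (Subgroup.mem_top _)
  refine ⟨n, ?_⟩
  have := hi n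
  rw [hn, Subgroup.mem_bot] at this
  have h2 := congrArg Subtype.val this
  rw [coe_iterate] at h2
  exact h2

lemma NilpotentWithAll.pow {g : G} (h : NilpotentWithAll g) (k : ℕ) : NilpotentWithAll (g ^ k) := by
  intro x
  refine CfsgLib.Fitting.isNilpotent_of_le (h x) ((Subgroup.closure_le _).mpr ?_)
  rintro y (rfl | rfl)
  · exact Subgroup.subset_closure (by simp)
  · exact Subgroup.pow_mem _ (Subgroup.subset_closure (by simp)) k

lemma NilpotentWithAll.map {G' : Type u} [Group G'] {g : G} (h : NilpotentWithAll g) (f : G →* G')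
    (hf : Function.Surjective f) : NilpotentWithAll (f g) := by
  intro y
  obtain ⟨x, rfl⟩ := hf y
  have := CfsgLib.Fitting.isNilpotent_map (h x) f
  rwa [MonoidHom.map_closure, Set.image_pair] at this

/-- In a nilpotent group elements of coprime order commute. -/
lemma commute_of_coprime_nilpotent [Finite G] [Group.IsNilpotent G] {a b : G}
    (h : (orderOf a).Coprime (orderOf b)) : Commute a b := by
  have e := Classical.choice ((Group.isNilpotent_of_finite_tfae (G := G)).out 0 4 |>.mp ‹_›)
  apply e.symm.injective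
  rw [map_mul, map_mul]
  ext q Q : 2
  have := Fact.mk (Nat.prime_of_mem_primeFactors q.2)
  obtain ⟨i, hi⟩ := IsPGroup.iff_orderOf.mp Q.2 (e.symm a q Q)
  obtain ⟨j, hj⟩ := IsPGroup.iff_orderOf.mp Q.2 (e.symm b q Q)
  have ha : orderOf (e.symm a q Q) ∣ orderOf a := by
    exact orderOf_dvd_of_pow_eq_one (by
      rw [← Pi.pow_apply, ← Pi.pow_apply, ← map_pow, pow_orderOf_eq_one, map_one]; rfl)
  have hb : orderOf (e.symm b q Q) ∣ orderOf b := by
    exact orderOf_dvd_of_pow_eq_one (by
      rw [← Pi.pow_apply, ← Pi.pow_apply, ← map_pow, pow_orderOf_eq_one, map_one]; rfl)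
  simp only [Pi.mul_apply]
  rcases Nat.eq_zero_or_pos i with rfl | hi0
  · rw [pow_zero, orderOf_eq_one_iff] at hi; rw [hi, one_mul, mul_one]
  rcases Nat.eq_zero_or_pos j with rfl | hj0
  · rw [pow_zero, orderOf_eq_one_iff] at hj; rw [hj, one_mul, mul_one]
  exfalso
  exact (Fact.out : (q : ℕ).Prime).ne_one (Nat.eq_one_of_dvd_coprimes h
    ((dvd_pow_self _ hi0.ne').trans (hi ▸ ha)) ((dvd_pow_self _ hj0.ne').trans (hj ▸ hb)))

theorem mem_hypercenter_pElt : ∀ (n : ℕ) (G : Type u) [Group G] [Finite G], Nat.card G ≤ n →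
    ∀ (p : ℕ) [Fact p.Prime] (g : G), (∃ k, orderOf g = p ^ k) → NilpotentWithAll g →
      ∃ m, g ∈ Subgroup.upperCentralSeries G m := by
  intro n
  induction n with
  | zero => intro G _ _ h; exact absurd Nat.card_pos (not_lt.mpr h)
  | succ n ih =>
    intro G _ _ hn p hp g hgo hg
    by_cases hZ : Subgroup.center G = ⊥
    · refine ⟨0, ?_⟩
      rw [Subgroup.upperCentralSeries_zero, Subgroup.mem_bot]
      by_contra hg1
      -- `W` is the normal closure of `g`
      set W := Subgroup.normalClosure ({g} : Set G) with hW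
      have hgF : g ∈ Cfsg.pCore p G := by
        have h1 : g ∈ Cfsg.fittingSubgroup G := (mem_fitting_iff_engel g).mpr hg.engel
        have h2 : IsPGroup p (Subgroup.zpowers g) := by
          obtain ⟨k, hk⟩ := hgo
          exact IsPGroup.of_card (n := k) (by rw [Nat.card_zpowers, hk])
        exact CfsgLib.Fitting.subnormal_pGroup_le_pCore
          (isSubnormal_zpowers_aux (Nat.card G) G le_rfl g hg.engel) h2 (Subgroup.mem_zpowers g)
      have hWp : IsPGroup p W := (CfsgLib.Fitting.pCore_isPGroup p).to_le
        (by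
          have : (Cfsg.pCore p G).Normal := CfsgLib.Fitting.pCore_normal p
          exact Subgroup.normalClosure_le_normal (Set.singleton_subset_iff.mpr hgF))
      have hcomm : ∀ x : G, (orderOf x).Coprime p → ∀ w ∈ W, Commute x w := by
        intro x hx
        have hle : W ≤ Subgroup.centralizer ({x} : Set G) := by
          rw [hW, Subgroup.normalClosure, Subgroup.closure_le]
          intro w hw
          obtain ⟨b, hb, hbw⟩ := Group.mem_conjugatesOfSet_iff.mp hw
          rw [Set.mem_singleton_iff.mp hb] at hbw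
          obtain ⟨c, rfl⟩ := isConj_iff.mp hbw
          set y := c⁻¹ * x * c
          have hy : (orderOf y).Coprime p := by
            have : orderOf y = orderOf x := by
              simpa [y, MulAut.conj_apply] using
                orderOf_injective (MulAut.conj c⁻¹).toMonoidHom (MulAut.conj c⁻¹).injective x
            rwa [this]
          set H := Subgroup.closure ({y, g} : Set G)
          have : Group.IsNilpotent H := hg y
          have hyH : y ∈ H := Subgroup.subset_closure (by simp)
          have hgH : g ∈ H := Subgroup.subset_closure (by simp)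
          obtain ⟨k, hk⟩ := hgo
          have hc := commute_of_coprime_nilpotent (a := (⟨y, hyH⟩ : H)) (b := ⟨g, hgH⟩)
            (by rw [Subgroup.orderOf_mk, Subgroup.orderOf_mk, hk]; exact hy.pow_right k)
          have hc' : y * g = g * y := congrArg Subtype.val hc
          exact Subgroup.mem_centralizer_singleton_iff.mpr (by
            calc c * g * c⁻¹ * x = c * (g * y) * c⁻¹ := by simp [y, mul_assoc]
              _ = c * (y * g) * c⁻¹ := by rw [hc']
              _ = _ := by simp [y, mul_assoc])
        intro w hw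
        exact (Subgroup.mem_centralizer_singleton_iff.mp (hle hw)).symm
      let P : Sylow p G := default
      have hWP : W ≤ (P : Subgroup G) := hWp.le_sylow_of_normal P
      have : Group.IsNilpotent (P : Subgroup G) := P.2.isNilpotent
      have hWne : W ≠ ⊥ := fun h => hg1 (by
        have : g ∈ W := Subgroup.subset_normalClosure rfl
        rwa [h, Subgroup.mem_bot] at this)
      obtain ⟨z, hzW, hz1, hzP⟩ : ∃ z ∈ W, z ≠ 1 ∧ (P : Subgroup G) ≤ Subgroup.centralizer {z} := by
        have hnc := CfsgLib.PGroupBasic.exists_central_orderOf_eq P.2 (W.subgroupOf (P : Subgroup G))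
          (fun h => hWne (by
            rw [Subgroup.subgroupOf_eq_bot] at h
            exact le_bot_iff.mp (h le_rfl hWP)))
        obtain ⟨z, hzW, hzc, hzo⟩ := hnc
        refine ⟨z, hzW, fun h => ?_, fun x hx => ?_⟩
        · have : orderOf z = 1 := orderOf_eq_one_iff.mpr (Subtype.ext h)
          rw [hzo] at this
          exact hp.out.ne_one this
        · exact Subgroup.mem_centralizer_singleton_iff.mpr
            (congrArg Subtype.val (Subgroup.mem_center_iff.mp hzc ⟨x, hx⟩))
      have hzc : z ∈ Subgroup.center G := by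
        rw [Subgroup.mem_center_iff]
        suffices htop : Subgroup.centralizer ({z} : Set G) = ⊤ by
          intro x
          exact Subgroup.mem_centralizer_singleton_iff.mp (htop ▸ Subgroup.mem_top x :)
        rw [← Subgroup.index_eq_one]
        by_contra hne
        obtain ⟨q, hq, hqd⟩ := Nat.exists_prime_and_dvd hne
        have : Fact q.Prime := ⟨hq⟩
        obtain rfl | hqp := eq_or_ne q p
        · exact P.not_dvd_index (hqd.trans (Subgroup.index_dvd_of_le hzP))
        · let Q : Sylow q G := default
          refine Q.not_dvd_index (hqd.trans (Subgroup.index_dvd_of_le fun x hx => ?_))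
          obtain ⟨j, hj⟩ := IsPGroup.iff_orderOf.mp Q.2 ⟨x, hx⟩
          rw [Subgroup.orderOf_mk] at hj
          exact Subgroup.mem_centralizer_singleton_iff.mpr
            (hcomm x (hj ▸ Nat.Coprime.pow_left j ((Nat.coprime_primes hq hp.out).mpr hqp)) z hzW).eq
      rw [hZ, Subgroup.mem_bot] at hzc
      exact hz1 hzc
    · have hsmall : Nat.card (G ⧸ Subgroup.center G) ≤ n := by
        have h1 := (Subgroup.center G).index_mul_card
        have h2 : 1 < Nat.card (Subgroup.center G) := (Subgroup.one_lt_card_iff_ne_bot _).mpr hZ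
        have h3 : 0 < (Subgroup.center G).index := Nat.pos_of_ne_zero Subgroup.FiniteIndex.index_ne_zero
        show (Subgroup.center G).index ≤ n
        nlinarith
      obtain ⟨k, hk⟩ := hgo
      have hgq : ∃ j, orderOf (QuotientGroup.mk' (Subgroup.center G) g) = p ^ j := by
        obtain ⟨j, -, hj⟩ := (Nat.dvd_prime_pow hp.out).mp
          (hk ▸ orderOf_map_dvd (QuotientGroup.mk' (Subgroup.center G)) g)
        exact ⟨j, hj⟩
      obtain ⟨m, hm⟩ := ih (G ⧸ Subgroup.center G) hsmall p _ hgq
        (hg.map _ (QuotientGroup.mk'_surjective _))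
      refine ⟨m.succ, ?_⟩
      rw [← Subgroup.comap_upperCentralSeries_quotient_center m]
      exact hm

theorem mem_hypercenter_iff [Finite G] (g : G) :
    NilpotentWithAll g ↔ g ∈ ⨆ n : ℕ, Subgroup.upperCentralSeries G n := by
  constructor
  · intro hg
    set Z := ⨆ n : ℕ, Subgroup.upperCentralSeries G n with hZ
    have hZn : Z.Normal := Subgroup.iSup_normal _
    have key : ∀ q : ℕ, q.Prime → g ^ (orderOf g / q ^ (orderOf g).factorization q) ∈ Z := by
      intro q hq
      have : Fact q.Prime := ⟨hq⟩
      obtain ⟨m, hm⟩ := mem_hypercenter_pElt (Nat.card G) G le_rfl q _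
        ⟨(orderOf g).factorization q, by
          rw [orderOf_pow_of_dvd (Nat.ordCompl_pos q (orderOf_pos g).ne').ne'
            (Nat.ordCompl_dvd _ _), Nat.div_div_self (Nat.ordProj_dvd _ _) (orderOf_pos g).ne']⟩
        (hg.pow _)
      exact le_iSup (Subgroup.upperCentralSeries G) m hm
    refine (QuotientGroup.eq_one_iff g).mp ?_
    by_contra hne
    have hne1 : orderOf (g : G ⧸ Z) ≠ 1 := fun h => hne (orderOf_eq_one_iff.mp h)
    obtain ⟨q, hq, hqd⟩ := Nat.exists_prime_and_dvd hne1
    have h1 : (g : G ⧸ Z) ^ (orderOf g / q ^ (orderOf g).factorization q) = 1 := by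
      rw [← QuotientGroup.mk_pow]
      exact (QuotientGroup.eq_one_iff _).mpr (key q hq)
    exact Nat.not_dvd_ordCompl hq (orderOf_pos g).ne' (hqd.trans (orderOf_dvd_of_pow_eq_one h1))
  · intro hg x
    obtain ⟨m, hm⟩ := (Subgroup.mem_iSup_of_directed
      (Monotone.directed_le (Subgroup.upperCentralSeries_mono G))).mp hg
    set H := Subgroup.closure ({x, g} : Set G) with hH
    have hxH : x ∈ H := Subgroup.subset_closure (by simp)
    have hgH : g ∈ H := Subgroup.subset_closure (by simp)
    have hmem : ∀ j, ∀ y : H, (y : G) ∈ Subgroup.upperCentralSeries G j →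
        y ∈ Subgroup.upperCentralSeries H j := by
      intro j
      induction j with
      | zero => intro y hy; simpa [Subgroup.upperCentralSeries_zero] using hy
      | succ j ihj =>
        intro y hy
        rw [Subgroup.mem_upperCentralSeries_succ_iff] at hy ⊢
        exact fun z => ihj _ (hy z)
    set Y := Subgroup.upperCentralSeries H m with hY
    set a : H := ⟨x, hxH⟩
    have hgY : (⟨g, hgH⟩ : H) ∈ Y := hmem m _ hm
    have hgen : ∀ y : H, ∃ i : ℤ, QuotientGroup.mk' Y y = QuotientGroup.mk' Y a ^ i := by
      intro y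
      have hy : (y : G) ∈ H := y.2
      suffices h : ∀ z (hz : z ∈ H), ∃ i : ℤ, QuotientGroup.mk' Y ⟨z, hz⟩ = QuotientGroup.mk' Y a ^ i
        from h y y.2
      intro z hz
      induction hz using Subgroup.closure_induction with
      | mem z hz =>
        rcases hz with rfl | hz
        · exact ⟨1, by rw [zpow_one]⟩
        · cases Set.mem_singleton_iff.mp hz
          exact ⟨0, by rw [zpow_zero]; exact (QuotientGroup.eq_one_iff _).mpr hgY⟩
      | one => exact ⟨0, by rw [zpow_zero]; exact map_one _⟩
      | mul u v hu hv h1 h2 =>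
        obtain ⟨i, hi⟩ := h1
        obtain ⟨j, hj⟩ := h2
        exact ⟨i + j, by rw [zpow_add, ← hi, ← hj, ← map_mul]; rfl⟩
      | inv u hu h1 =>
        obtain ⟨i, hi⟩ := h1
        exact ⟨-i, by rw [zpow_neg, ← hi, ← map_inv]; rfl⟩
    refine ⟨⟨m + 1, eq_top_iff.mpr fun y _ => ?_⟩⟩
    rw [Subgroup.mem_upperCentralSeries_succ_iff]
    intro z
    obtain ⟨i, hi⟩ := hgen y
    obtain ⟨j, hj⟩ := hgen z
    refine (QuotientGroup.eq_one_iff _).mp ?_
    show QuotientGroup.mk' Y (y * z * y⁻¹ * z⁻¹) = 1
    rw [map_mul, map_mul, map_mul, map_inv, map_inv, hi, hj]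
    group

end CfsgLib.Engel
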