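import Cfsg.Agent.Lib.Struct77.BGroupSylow
import Cfsg.Agent.Lib.Struct77.Engel
import Cfsg.Agent.Lib.Solvable.Fitting
import Cfsg.Agent.Lib.Solvable.MinNormal
import Cfsg.Agent.Lib.InvChar.SolvableTwo
import Cfsg.Agent.Lib.PCore.Basic

set_option autoImplicit false

/-! Solvable groups with conjugate abelian subgroups of equal order: all quotients inherit it. -/

namespace CfsgLib.BGroup

universe u

variable {G : Type u} [Group G] [Finite G]

/-- If `M` has a complement, the quotient inherits `AbConj`. -/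
theorem AbConj.quotient_of_complement (hB : AbConj G) (M : Subgroup G) [M.Normal] (H : Subgroup G)
    (hH : M.IsComplement' H) : AbConj (G ⧸ M) := by
  let φ : H →* G ⧸ M := (QuotientGroup.mk' M).comp H.subtype
  have hφ : Function.Surjective φ := by
    intro x
    obtain ⟨g, rfl⟩ := QuotientGroup.mk'_surjective M x
    obtain ⟨⟨m, h⟩, hmh : (m : G) * (h : G) = g⟩ := hH.2 g
    refine ⟨h, ?_⟩
    show QuotientGroup.mk' M (h : G) = QuotientGroup.mk' M g
    rw [← hmh, map_mul, show QuotientGroup.mk' M (m : G) = 1 from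
      (QuotientGroup.eq_one_iff _).mpr m.2, one_mul]
  have hinj : Function.Injective φ := by
    rw [← MonoidHom.ker_eq_bot_iff, eq_bot_iff]
    intro x hx
    have : (x : G) ∈ M ⊓ H := ⟨(QuotientGroup.eq_one_iff _).mp hx, x.2⟩
    rw [hH.disjoint.eq_bot, Subgroup.mem_bot] at this
    exact Subgroup.mem_bot.mpr (Subtype.ext this)
  let e : H ≃* G ⧸ M := MulEquiv.ofBijective φ ⟨hinj, hφ⟩
  intro A B hA hA' hcard
  have hlift : ∀ C : Subgroup (G ⧸ M),
      Nat.card ((C.comap e.toMonoidHom).map H.subtype) = Nat.card C := fun C => by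
    rw [Subgroup.card_map_of_injective H.subtype_injective,
      ← Subgroup.card_map_of_injective (f := e.toMonoidHom) e.injective,
      Subgroup.map_comap_eq_self_of_surjective e.surjective]
  have hcom : ∀ C : Subgroup (G ⧸ M), IsMulCommutative C →
      IsMulCommutative ↥((C.comap e.toMonoidHom).map H.subtype) := fun C hC => by
    have : IsMulCommutative ↥(C.comap e.toMonoidHom) :=
      C.comap_injective_isMulCommutative e.injective
    exact Subgroup.map_isMulCommutative _ _
  have himg : ∀ C : Subgroup (G ⧸ M),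
      ((C.comap e.toMonoidHom).map H.subtype).map (QuotientGroup.mk' M) = C := fun C => by
    rw [Subgroup.map_map]
    exact Subgroup.map_comap_eq_self_of_surjective e.surjective C
  obtain ⟨g, hg⟩ := hB _ _ (hcom A hA) (hcom B hA') (by rw [hlift, hlift, hcard])
  refine ⟨QuotientGroup.mk' M g, ?_⟩
  have key : ∀ X : Subgroup G, (X.map (MulAut.conj g).toMonoidHom).map (QuotientGroup.mk' M) =
      (X.map (QuotientGroup.mk' M)).map (MulAut.conj (QuotientGroup.mk' M g)).toMonoidHom := fun X => by
    rw [Subgroup.map_map, Subgroup.map_map]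
    rfl
  calc B = ((B.comap e.toMonoidHom).map H.subtype).map (QuotientGroup.mk' M) := (himg B).symm
    _ = _ := by rw [hg, key, himg A]

/-- A quaternion Sylow 2-subgroup of a solvable such group has order 8. -/
theorem AbConj.quaternion_eight (hB : AbConj G) [Group.IsSolvable G] (P : Sylow 2 G) (m : ℕ)
    (e : ↥(P : Subgroup G) ≃* QuaternionGroup (2 ^ m)) : m ≤ 1 := by
  by_contra hm
  have : NeZero (2 ^ m) := ⟨pow_ne_zero _ two_ne_zero⟩
  -- pass to the quotient by the odd core
  let K : Subgroup G := Cfsg.pPrimeCore 2 G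
  have hKn : K.Normal := Cfsg.pPrimeCore_normal 2 G
  have hKodd : Odd (Nat.card K) := by
    have := CfsgLib.PCore.pPrimeCore_coprime (p := 2) (G := G)
    exact Nat.coprime_two_right.mp this
  have hB' := hB.quotient_odd K hKodd
  let P' : Sylow 2 (G ⧸ K) := P.mapSurjective (QuotientGroup.mk'_surjective K)
  have hinj : ∀ x ∈ (P : Subgroup G), x ∈ K → x = 1 := by
    intro x hx hxK
    obtain ⟨i, hi⟩ := IsPGroup.iff_orderOf.mp P.2 ⟨x, hx⟩
    rw [Subgroup.orderOf_mk] at hi
    exact orderOf_eq_one_iff.mp (Nat.eq_one_of_dvd_coprimes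
      (Nat.Coprime.pow_left i hKodd.coprime_two_left) (dvd_of_eq hi) (Subgroup.orderOf_dvd_natCard K hxK))
  let f : ↥(P : Subgroup G) →* G ⧸ K := (QuotientGroup.mk' K).comp (P : Subgroup G).subtype
  have hf : Function.Injective f := by
    rw [← MonoidHom.ker_eq_bot_iff, eq_bot_iff]
    intro x hx
    exact Subgroup.mem_bot.mpr (Subtype.ext (hinj x x.2 ((QuotientGroup.eq_one_iff _).mp hx)))
  let f' : QuaternionGroup (2 ^ m) →* G ⧸ K := f.comp e.symm.toMonoidHom
  have hf' : Function.Injective f' := hf.comp e.symm.injective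
  have hrange : ∀ y ∈ (P' : Subgroup (G ⧸ K)), ∃ w, f' w = y := by
    rintro y ⟨x, hx, rfl⟩
    exact ⟨e ⟨x, hx⟩, by simp [f', f]⟩
  have hmem : ∀ w, f' w ∈ (P' : Subgroup (G ⧸ K)) := fun w =>
    ⟨(e.symm w : G), (e.symm w).2, rfl⟩
  have hcore : Cfsg.pPrimeCore 2 (G ⧸ K) = ⊥ := CfsgLib.PCore.pPrimeCore_quotient_pPrimeCore
  let T : Subgroup (G ⧸ K) := Cfsg.pCore 2 (G ⧸ K)
  have hTn : T.Normal := CfsgLib.Fitting.pCore_normal 2
  have hTp : IsPGroup 2 T := CfsgLib.Fitting.pCore_isPGroup 2
  have hTP : T ≤ (P' : Subgroup (G ⧸ K)) := CfsgLib.Fitting.pCore_le_sylow P'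
  have hcent : Subgroup.centralizer (T : Set (G ⧸ K)) ≤ T :=
    CfsgLib.InvChar.centralizer_pCore_le hcore
  -- `T` has an element of order four
  have hfour : ∃ t ∈ T, orderOf t = 4 := by
    have hone : ∀ t ∈ T, orderOf t ∣ 2 → t = 1 ∨ t = f' (QuaternionGroup.a ((2 ^ m : ℕ) : ZMod (2 * 2 ^ m))) := by
      intro t ht htd
      obtain ⟨w, rfl⟩ := hrange t (hTP ht)
      have hwd : w ^ 2 = 1 := hf' (by
        rw [map_pow, map_one]; exact orderOf_dvd_iff_pow_eq_one.mp htd)
      rcases w with i | i
      · have h2 : i + i = 0 := by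
          rw [pow_two, QuaternionGroup.a_mul_a, QuaternionGroup.one_def] at hwd
          exact QuaternionGroup.a.inj hwd
        by_cases hi : i = 0
        · left; rw [hi, QuaternionGroup.a_zero, map_one]
        · right
          congr 2
          apply ZMod.val_injective
          rw [ZMod.val_natCast, Nat.mod_eq_of_lt (by
            have := Nat.one_le_two_pow (n := m); omega)]
          have h1 : ((i.val + i.val : ℕ) : ZMod (2 * 2 ^ m)) = 0 := by
            rw [Nat.cast_add, ZMod.natCast_zmod_val, h2]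
          rw [ZMod.natCast_eq_zero_iff] at h1
          have h3 := ZMod.val_lt i
          have h4 : i.val ≠ 0 := fun h => hi (by rwa [ZMod.val_eq_zero] at h)
          obtain ⟨c, hc⟩ := h1
          have : c < 2 := by
            by_contra h
            have : 2 * 2 ^ m * 2 ≤ 2 * 2 ^ m * c := Nat.mul_le_mul_left _ (by omega)
            omega
          interval_cases c <;> omega
      · exfalso
        rw [QuaternionGroup.xa_sq, QuaternionGroup.one_def] at hwd
        have h5 := QuaternionGroup.a.inj hwd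
        rw [ZMod.natCast_eq_zero_iff] at h5
        have := Nat.le_of_dvd (by positivity) h5
        have := Nat.one_le_two_pow (n := m)
        omega
    by_contra hno
    push Not at hno
    have hTsq : ∀ t ∈ T, orderOf t ∣ 2 := by
      intro t ht
      obtain ⟨j, hj⟩ := IsPGroup.iff_orderOf.mp hTp ⟨t, ht⟩
      rw [Subgroup.orderOf_mk] at hj
      rcases Nat.lt_or_ge j 2 with h | h
      · rw [hj]; exact (pow_dvd_pow 2 (by omega : j ≤ 1)).trans (by rw [pow_one])
      · exfalso
        refine hno (t ^ 2 ^ (j - 2)) (T.pow_mem ht _) ?_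
        rw [orderOf_pow_of_dvd (by positivity) (hj ▸ pow_dvd_pow 2 (by omega)), hj,
          Nat.pow_div (by omega) (by norm_num), show j - (j - 2) = 2 by omega]
    -- so `T` is central in the quotient, hence everything lies in `T`
    have hCtop : ∀ y : G ⧸ K, y ∈ T := by
      intro y
      apply hcent
      rw [Subgroup.mem_centralizer_iff]
      intro t ht
      have hty : y * t * y⁻¹ ∈ T := hTn.conj_mem t ht y
      rcases hone t ht (hTsq t ht) with h1 | h1
      · simp [h1]
      · rcases hone _ hty (hTsq _ hty) with h2 | h2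
        · have : t = 1 := conj_eq_one_iff.mp h2
          simp [this]
        · have : y * t * y⁻¹ = t := by rw [h2, h1]
          exact (mul_inv_eq_iff_eq_mul.mp this).symm
    have h4 : orderOf (f' (QuaternionGroup.xa 0)) = 4 := by
      rw [orderOf_injective f' hf', QuaternionGroup.orderOf_xa]
    exact hno _ (hCtop _) h4
  obtain ⟨t, ht, ht4⟩ := hfour
  -- so `T` is the whole Sylow subgroup
  have hTeq : T = (P' : Subgroup (G ⧸ K)) := by
    refine le_antisymm hTP fun y hy => ?_
    obtain ⟨w, rfl⟩ := hrange y hy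
    have hxa : ∀ i, f' (QuaternionGroup.xa i) ∈ T := fun i =>
      hB'.mem_normal ht (by rw [ht4, orderOf_injective f' hf', QuaternionGroup.orderOf_xa])
    rcases w with i | i
    · have h1 : QuaternionGroup.xa 0 * QuaternionGroup.xa (i - ((2 ^ m : ℕ) : ZMod (2 * 2 ^ m))) =
          QuaternionGroup.a i := by
        rw [QuaternionGroup.xa_mul_xa]; congr 1; ring
      rw [← h1, map_mul]
      exact T.mul_mem (hxa _) (hxa _)
    · exact hxa i
  -- the cyclic subgroup of index two is normal
  let S : Set (G ⧸ K) := {y | y ∈ T ∧ 4 < orderOf y}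
  have hWn : (Subgroup.closure S).Normal := by
    refine ⟨fun x hx g => ?_⟩
    induction hx using Subgroup.closure_induction with
    | mem y hy =>
      refine Subgroup.subset_closure ⟨hTn.conj_mem y hy.1 g, ?_⟩
      have hoy : orderOf (g * y * g⁻¹) = orderOf y := by
        simpa [MulAut.conj_apply] using
          orderOf_injective (MulAut.conj g).toMonoidHom (MulAut.conj g).injective y
      rw [hoy]; exact hy.2
    | one => simp
    | mul a b _ _ ha hb => rw [← conj_mul]; exact Subgroup.mul_mem _ ha hb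
    | inv a _ ha => rw [← conj_inv]; exact Subgroup.inv_mem _ ha
  let R : Subgroup (QuaternionGroup (2 ^ m)) := Subgroup.zpowers (QuaternionGroup.a 1)
  have hWle : Subgroup.closure S ≤ R.map f' := by
    rw [Subgroup.closure_le]
    rintro y ⟨hy, hy4⟩
    obtain ⟨w, rfl⟩ := hrange y (hTP hy)
    rcases w with i | i
    · exact ⟨_, ⟨(i.val : ℤ), by simp only [zpow_natCast, QuaternionGroup.a_one_pow, ZMod.natCast_zmod_val]⟩, rfl⟩
    · rw [orderOf_injective f' hf', QuaternionGroup.orderOf_xa] at hy4
      exact absurd hy4 (lt_irrefl 4)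
  have h2n : orderOf (f' (QuaternionGroup.a 1)) = 2 * 2 ^ m := by
    rw [orderOf_injective f' hf', QuaternionGroup.orderOf_a_one]
  have h4le : 2 ^ 2 ≤ 2 ^ m := Nat.pow_le_pow_right (by norm_num) (by omega)
  have hu4 : orderOf (f' (QuaternionGroup.a 1) ^ (2 ^ (m - 1))) = 4 := by
    rw [orderOf_pow_of_dvd (by positivity) (by
      rw [h2n]; exact (pow_dvd_pow 2 (by omega)).mul_left 2), h2n,
      Nat.mul_div_assoc 2 (pow_dvd_pow 2 (by omega)), Nat.pow_div (by omega) (by norm_num),
      show m - (m - 1) = 1 by omega]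
  have hu : f' (QuaternionGroup.a 1) ∈ Subgroup.closure S := Subgroup.subset_closure
    ⟨hTeq ▸ hmem _, by omega⟩
  have hxa0 : f' (QuaternionGroup.xa 0) ∈ Subgroup.closure S :=
    hB'.mem_normal (M := Subgroup.closure S) (Subgroup.pow_mem _ hu (2 ^ (m - 1)))
      (by rw [hu4, orderOf_injective f' hf', QuaternionGroup.orderOf_xa])
  obtain ⟨w, hw, hwe⟩ := hWle hxa0
  obtain ⟨k, hk⟩ := Subgroup.mem_zpowers_iff.mp hw
  have h6 := hf' hwe
  rw [← hk] at h6
  obtain ⟨k', hk'⟩ : ∃ k' : ℕ, QuaternionGroup.a (1 : ZMod (2 * 2 ^ m)) ^ k =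
      QuaternionGroup.a 1 ^ k' := by
    refine ⟨(k % (orderOf (QuaternionGroup.a (1 : ZMod (2 * 2 ^ m))) : ℤ)).toNat, ?_⟩
    rw [← zpow_natCast, Int.toNat_of_nonneg (Int.emod_nonneg _ (by
      rw [QuaternionGroup.orderOf_a_one]; positivity)), zpow_mod_orderOf]
  rw [hk', QuaternionGroup.a_one_pow] at h6
  cases h6

lemma two_part_eq {A : ℕ} (hA : A ≠ 0) {q : ℕ} (hq : q ∣ A) (h2 : q = 2) : 1 ≤ A.factorization 2 := by
  subst h2
  exact Nat.Prime.factorization_pos_of_dvd Nat.prime_two hA hq

/-- In a nilpotent lift, the odd part commutes elementwise with the 2-part, and is abelian. -/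
theorem lift_parts {Z : Subgroup G} [Z.Normal] (hZ : Nat.card Z = 2) {A : Subgroup (G ⧸ Z)}
    (hA : IsMulCommutative A) {L : Subgroup G} (hnil : Group.IsNilpotent L)
    (hL : L.map (QuotientGroup.mk' Z) = A) (R : Sylow 2 L) :
    ∃ K : Subgroup G, K ≤ L ∧ IsMulCommutative K ∧
      Nat.card K * Nat.card (R : Subgroup L) = Nat.card L ∧
      L = (R : Subgroup L).map L.subtype ⊔ K ∧
      (R : Subgroup L).map L.subtype ≤ Subgroup.centralizer (K : Set G) := by
  have : Fact (Nat.Prime 2) := ⟨Nat.prime_two⟩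
  have hall : ∀ (p : ℕ) (_hp : Fact p.Prime) (P : Sylow p L), (P : Subgroup L).Normal :=
    ((Group.isNilpotent_of_finite_tfae (G := L)).out 0 3).mp hnil
  have hRn := hall 2 inferInstance R
  obtain ⟨K, hK⟩ := Subgroup.exists_right_complement'_of_coprime R.card_coprime_index
  have hKcard : Nat.card K = (R : Subgroup L).index := (hK.symm.index_eq_card).symm
  have hKodd : ∀ x ∈ K, Nat.Coprime (orderOf x) 2 := fun x hx => by
    rw [Nat.coprime_comm, Nat.prime_two.coprime_iff_not_dvd]
    intro hd
    exact R.not_dvd_index (hKcard ▸ hd.trans (Subgroup.orderOf_dvd_natCard K hx))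
  refine ⟨K.map L.subtype, Subgroup.map_subtype_le K, ?_, ?_, ?_, ?_⟩
  · refine ⟨⟨fun a b => Subtype.ext ?_⟩⟩
    obtain ⟨a', ha', ha⟩ := a.2
    obtain ⟨b', hb', hb⟩ := b.2
    simp only [Subgroup.coe_mul]
    rw [← ha, ← hb, ← map_mul, ← map_mul]
    congr 1
    have hmem : a' * b' * a'⁻¹ * b'⁻¹ ∈ K :=
      K.mul_mem (K.mul_mem (K.mul_mem ha' hb') (K.inv_mem ha')) (K.inv_mem hb')
    have hz : ((a' * b' * a'⁻¹ * b'⁻¹ : L) : G) ∈ Z := by
      rw [← QuotientGroup.eq_one_iff]
      have hx : QuotientGroup.mk' Z (a' : G) ∈ A := hL ▸ ⟨_, a'.2, rfl⟩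
      have hy : QuotientGroup.mk' Z (b' : G) ∈ A := hL ▸ ⟨_, b'.2, rfl⟩
      have := congrArg Subtype.val (hA.is_comm.comm ⟨_, hx⟩ ⟨_, hy⟩)
      show QuotientGroup.mk' Z _ = 1
      simp only [Subgroup.coe_mul, Subgroup.coe_inv, map_mul, map_inv] at this ⊢
      rw [this]; group
    have h2 := Subgroup.orderOf_dvd_natCard Z hz
    rw [Subgroup.orderOf_coe, hZ] at h2
    have h1 : a' * b' * a'⁻¹ * b'⁻¹ = 1 :=
      orderOf_eq_one_iff.mp (Nat.eq_one_of_dvd_coprimes (hKodd _ hmem) dvd_rfl h2)
    exact mul_inv_eq_iff_eq_mul.mp (mul_inv_eq_one.mp h1)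
  · rw [Subgroup.card_map_of_injective L.subtype_injective, mul_comm]
    exact hK.card_mul_card
  · rw [← Subgroup.map_sup, hK.sup_eq_top, ← MonoidHom.range_eq_map, Subgroup.range_subtype]
  · rintro _ ⟨r, hr, rfl⟩
    rw [Subgroup.mem_centralizer_iff]
    rintro _ ⟨k, hk, rfl⟩
    obtain ⟨i, hi⟩ := IsPGroup.iff_orderOf.mp R.2 ⟨r, hr⟩
    rw [Subgroup.orderOf_mk] at hi
    have hc : k * r = r * k :=
      CfsgLib.Engel.commute_of_coprime_nilpotent (hi ▸ (hKodd k hk).pow_right i)
    exact congrArg Subtype.val hc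

/-- Quotient by a central subgroup of order 2 when the Sylow 2-subgroup has order at most 8. -/
theorem AbConj.quotient_two (hB : AbConj G) (Z : Subgroup G) [Z.Normal] (hZ : Nat.card Z = 2)
    (h8 : ∀ P : Sylow 2 G, Nat.card (P : Subgroup G) = 8)
    (huniq : ∀ (P : Sylow 2 G), ∀ x ∈ (P : Subgroup G), orderOf x = 2 → x ∈ Z) :
    AbConj (G ⧸ Z) := by
  classical
  have : Fact (Nat.Prime 2) := ⟨Nat.prime_two⟩
  intro A B hA hB' hcard
  obtain ⟨LA, hLA, hminA⟩ := exists_min_lift Z A
  obtain ⟨LB, hLB, hminB⟩ := exists_min_lift Z B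
  have hcardL : ∀ (L : Subgroup G) (C : Subgroup (G ⧸ Z)), L.map (QuotientGroup.mk' Z) = C →
      (∀ K : Subgroup G, K < L → K.map (QuotientGroup.mk' Z) ≠ C) →
      Nat.card L = if 2 ∣ Nat.card C then 2 * Nat.card C else Nat.card C := by
    intro L C hL hmin
    let φ : L →* G ⧸ Z := (QuotientGroup.mk' Z).comp L.subtype
    have hrange : φ.range = C := by rw [MonoidHom.range_comp, Subgroup.range_subtype, hL]
    have hker : φ.ker = Z.subgroupOf L := by
      ext x
      simp [φ, MonoidHom.mem_ker, Subgroup.mem_subgroupOf]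
    have hcardC : Nat.card L = Nat.card C * Nat.card (Z.subgroupOf L) := by
      rw [← hrange, ← Subgroup.index_ker, hker]
      exact ((Z.subgroupOf L).index_mul_card).symm
    by_cases h2 : 2 ∣ Nat.card C
    · rw [if_pos h2]
      have hd : 2 ∣ Nat.card L := hcardC ▸ h2.mul_right _
      obtain ⟨x, hx⟩ := exists_prime_orderOf_dvd_card' 2 hd
      have hxo : orderOf (x : G) = 2 := by rw [Subgroup.orderOf_coe, hx]
      obtain ⟨P, hP⟩ := (IsPGroup.of_card (p := 2) (G := Subgroup.zpowers (x : G)) (n := 1)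
        (by rw [Nat.card_zpowers, hxo, pow_one])).exists_le_sylow
      have hxZ := huniq P x (hP (Subgroup.mem_zpowers _)) hxo
      have hle : Z ≤ L := by
        have h4 : Subgroup.zpowers (x : G) = Z := Subgroup.eq_of_le_of_card_ge
          (Subgroup.zpowers_le.mpr hxZ) (by rw [Nat.card_zpowers, hxo, hZ])
        rw [← h4]
        exact Subgroup.zpowers_le.mpr x.2
      rw [hcardC, Nat.card_congr (Subgroup.subgroupOfEquivOfLe hle).toEquiv, hZ, mul_comm]
    · rw [if_neg h2]
      have h3 : Nat.card (Z.subgroupOf L) ∣ 2 := by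
        rw [← hZ, ← Subgroup.card_map_of_injective L.subtype_injective,
          Subgroup.subgroupOf_map_subtype]
        exact Subgroup.card_dvd_of_le inf_le_left
      rcases (Nat.dvd_prime Nat.prime_two).mp h3 with h4 | h4
      · rw [hcardC, h4, mul_one]
      · -- impossible: a complement would be a smaller lift
        exfalso
        have hco : Nat.Coprime (Nat.card (Z.subgroupOf L)) (Z.subgroupOf L).index := by
          rw [h4, Nat.prime_two.coprime_iff_not_dvd]
          have h5 : (Z.subgroupOf L).index = Nat.card C := by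
            apply Nat.eq_of_mul_eq_mul_right (Nat.card_pos (α := Z.subgroupOf L))
            rw [Subgroup.index_mul_card, hcardC]
          rwa [h5]
        obtain ⟨K, hK⟩ := Subgroup.exists_left_complement'_of_coprime hco
        have hKt : K ≠ ⊤ := by
          intro h
          have h6 := Subgroup.isComplement'_top_left.mp (h ▸ hK)
          rw [h6, Subgroup.card_bot] at h4
          exact absurd h4 (by norm_num)
        obtain ⟨D, hD, hKD⟩ := (eq_top_or_exists_le_coatom K).resolve_left hKt
        have := min_lift_inf_le Z hL hmin hD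
        exact hD.1 (top_le_iff.mp (hK.sup_eq_top ▸ sup_le hKD this))
  have hLeq : Nat.card LA = Nat.card LB := by
    rw [hcardL LA A hLA hminA, hcardL LB B hLB hminB, hcard]
  have hnA := min_lift_nilpotent Z hA hLA hminA
  have hnB := min_lift_nilpotent Z hB' hLB hminB
  let RA : Sylow 2 LA := default
  let RB : Sylow 2 LB := default
  obtain ⟨KA, hKA, hKAc, hcA, hsupA, hcentA⟩ := lift_parts hZ hA hnA hLA RA
  obtain ⟨KB, hKB, hKBc, hcB, hsupB, hcentB⟩ := lift_parts hZ hB' hnB hLB RB
  have hRcard : Nat.card (RA : Subgroup LA) = Nat.card (RB : Subgroup LB) := by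
    rw [RA.card_eq_multiplicity, RB.card_eq_multiplicity, hLeq]
  have hKcard : Nat.card KA = Nat.card KB :=
    Nat.eq_of_mul_eq_mul_right Nat.card_pos (by rw [hcA, hRcard, hcB, hLeq] : Nat.card KA *
      Nat.card (RA : Subgroup LA) = Nat.card KB * Nat.card (RA : Subgroup LA))
  have finish : ∀ g : G, LB = LA.map (MulAut.conj g).toMonoidHom →
      ∃ g' : G ⧸ Z, B = A.map (MulAut.conj g').toMonoidHom := by
    intro g hg
    refine ⟨QuotientGroup.mk' Z g, ?_⟩
    rw [← hLB, hg, ← hLA, Subgroup.map_map, Subgroup.map_map]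
    congr 1
  by_cases h8A : Nat.card (RA : Subgroup LA) = 8
  · -- both 2-parts are Sylow subgroups of `G`
    obtain ⟨g₁, hg₁⟩ := hB KA KB hKAc hKBc hKcard
    set c := (MulAut.conj g₁).toMonoidHom with hc
    set C := Subgroup.centralizer (KB : Set G) with hC
    set S₁ := ((RA : Subgroup LA).map LA.subtype).map c with hS₁
    set S₂ := (RB : Subgroup LB).map LB.subtype with hS₂
    have hS₁C : S₁ ≤ C := by
      rintro _ ⟨r, hr, rfl⟩
      rw [hC, Subgroup.mem_centralizer_iff]
      intro k hk
      rw [hg₁] at hk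
      obtain ⟨k', hk', rfl⟩ := hk
      rw [← map_mul, ← map_mul, Subgroup.mem_centralizer_iff.mp (hcentA hr) k' hk']
    have hcardS : ∀ S : Subgroup G, S ≤ C → Nat.card S = 8 →
        ∃ T : Sylow 2 C, (T : Subgroup C) = S.subgroupOf C := by
      intro S hS hS8
      obtain ⟨T, hT⟩ := ((IsPGroup.of_card (p := 2) (G := S) (n := 3) (by rw [hS8]; rfl)).comap_subtype
        (K := C)).exists_le_sylow
      refine ⟨T, (Subgroup.eq_of_le_of_card_ge hT ?_).symm⟩
      obtain ⟨P, hP⟩ := (T.2.map C.subtype).exists_le_sylow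
      have := Subgroup.card_le_of_le hP
      rw [Subgroup.card_map_of_injective C.subtype_injective, h8 P] at this
      exact this.trans_eq ((Nat.card_congr (Subgroup.subgroupOfEquivOfLe hS).toEquiv).trans hS8).symm
    obtain ⟨T₁, hT₁⟩ := hcardS S₁ hS₁C (by
      rw [hS₁, Subgroup.card_map_of_injective (f := c) (MulAut.conj g₁).injective,
        Subgroup.card_map_of_injective LA.subtype_injective, h8A])
    obtain ⟨T₂, hT₂⟩ := hcardS S₂ hcentB (by
      rw [hS₂, Subgroup.card_map_of_injective LB.subtype_injective, ← hRcard, h8A])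
    obtain ⟨w, hw⟩ := MulAction.exists_smul_eq C T₁ T₂
    have hS : S₂ = S₁.map (MulAut.conj (w : G)).toMonoidHom := by
      have h7 := congrArg (fun T : Sylow 2 C => (T : Subgroup C).map C.subtype) hw
      simp only [Sylow.coe_subgroup_smul, hT₁, hT₂, Subgroup.subgroupOf_map_subtype,
        inf_eq_left.mpr hcentB] at h7
      rw [← h7]
      change ((S₁.subgroupOf C).map (MulAut.conj w).toMonoidHom).map C.subtype = _
      rw [Subgroup.map_map]
      conv_rhs => rw [← inf_eq_left.mpr hS₁C, ← Subgroup.subgroupOf_map_subtype, Subgroup.map_map]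
      rfl
    refine finish ((w : G) * g₁) ?_
    rw [hsupB, hsupA, Subgroup.map_sup]
    congr 1
    · rw [hS, hS₁, Subgroup.map_map, map_mul]
      rfl
    · have hfix : KB.map (MulAut.conj (w : G)).toMonoidHom = KB := by
        have hw1 : ∀ k ∈ KB, (w : G) * k * (w : G)⁻¹ = k := fun k hk => by
          rw [← Subgroup.mem_centralizer_iff.mp w.2 k hk, mul_inv_cancel_right]
        ext k
        constructor
        · rintro ⟨k', hk', rfl⟩
          show (w : G) * k' * (w : G)⁻¹ ∈ KB
          rw [hw1 k' hk']; exact hk'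
        · intro hk
          exact ⟨k, hk, hw1 k hk⟩
      rw [← hfix, hg₁, Subgroup.map_map, map_mul]
      rfl
  · have hab : ∀ (L : Subgroup G) (R : Sylow 2 L) (K : Subgroup G), IsMulCommutative K →
        L = (R : Subgroup L).map L.subtype ⊔ K →
        (R : Subgroup L).map L.subtype ≤ Subgroup.centralizer (K : Set G) →
        Nat.card (R : Subgroup L) ∣ 4 → IsMulCommutative L := by
      intro L R K hK hsup hcent h4
      have hR : IsMulCommutative (R : Subgroup L) := by
        obtain ⟨i, hi, hi'⟩ := (Nat.dvd_prime_pow Nat.prime_two).mp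
          (show Nat.card (R : Subgroup L) ∣ 2 ^ 2 from h4)
        interval_cases i
        · have : Subsingleton (R : Subgroup L) :=
            (Nat.card_eq_one_iff_unique.mp (by simpa using hi')).1
          exact ⟨⟨fun a b => Subsingleton.elim _ _⟩⟩
        · have := isCyclic_of_prime_card (p := 2) (by simpa using hi')
          infer_instance
        · exact ⟨⟨(IsPGroup.commutative_of_card_eq_prime_sq (p := 2) hi')⟩⟩
      have hR' : IsMulCommutative ↥((R : Subgroup L).map L.subtype) :=
        Subgroup.map_isMulCommutative _ _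
      have hclos : L = Subgroup.closure (((R : Subgroup L).map L.subtype : Set G) ∪ K) := by
        rw [Subgroup.closure_union, Subgroup.closure_eq, Subgroup.closure_eq]; exact hsup
      rw [hclos]
      refine Subgroup.isMulCommutative_closure fun a ha b hb => ?_
      rcases ha with ha | ha <;> rcases hb with hb | hb
      · exact congrArg Subtype.val (hR'.is_comm.comm ⟨a, ha⟩ ⟨b, hb⟩)
      · exact (Subgroup.mem_centralizer_iff.mp (hcent ha) b hb).symm
      · exact Subgroup.mem_centralizer_iff.mp (hcent hb) a ha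
      · exact congrArg Subtype.val (hK.is_comm.comm ⟨a, ha⟩ ⟨b, hb⟩)
    have h4 : ∀ (L : Subgroup G) (R : Sylow 2 L), Nat.card (R : Subgroup L) ≠ 8 →
        Nat.card (R : Subgroup L) ∣ 4 := by
      intro L R hne
      obtain ⟨i, hi⟩ := R.2.exists_card_eq
      obtain ⟨P, hP⟩ := (R.2.map L.subtype).exists_le_sylow
      have := Subgroup.card_le_of_le hP
      rw [Subgroup.card_map_of_injective L.subtype_injective, h8 P, hi] at this
      have h3 : i ≤ 3 := (Nat.pow_le_pow_iff_right (by norm_num : 1 < 2)).mp this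
      rw [hi] at hne ⊢
      have : i ≠ 3 := fun h => hne (by rw [h]; rfl)
      exact (pow_dvd_pow 2 (by omega : i ≤ 2))
    obtain ⟨g, hg⟩ := hB LA LB (hab LA RA KA hKAc hsupA hcentA (h4 LA RA h8A))
      (hab LB RB KB hKBc hsupB hcentB (h4 LB RB (hRcard ▸ h8A))) hLeq
    exact finish g hg

/-- Quotient by a minimal normal subgroup. -/
theorem AbConj.quotient_minNormal (hB : AbConj G) [Group.IsSolvable G] {p t : ℕ} [hp : Fact p.Prime]
    (N : Subgroup G) [N.Normal] (hN : Nat.card N = p ^ t) (hel : Cfsg.IsElementaryAbelian p N)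
    (ht : 1 ≤ t) : AbConj (G ⧸ N) := by
  obtain rfl | hp2 := eq_or_ne p 2
  swap
  · exact hB.quotient_odd N (hN ▸ ((hp.out.odd_of_ne_two hp2).pow))
  have hNp : IsPGroup 2 N := IsPGroup.of_card hN
  by_cases hexp : ∀ (P : Sylow 2 G), ∀ x ∈ (P : Subgroup G), x ^ 2 = 1
  · -- elementary Sylow 2-subgroup: it equals `N`
    let P : Sylow 2 G := default
    have hPN : (P : Subgroup G) = N := by
      refine le_antisymm (fun x hx => ?_) (hNp.le_sylow_of_normal P)
      by_cases hx1 : x = 1
      · rw [hx1]; exact N.one_mem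
      obtain ⟨n, hn⟩ := exists_prime_orderOf_dvd_card' 2 (hN ▸ dvd_pow_self 2 (by omega) : 2 ∣ Nat.card N)
      exact hB.mem_normal n.2 (by rw [Subgroup.orderOf_coe, hn, orderOf_eq_prime (hexp P x hx) hx1])
    obtain ⟨H, hH⟩ := Subgroup.exists_right_complement'_of_coprime
      (show Nat.Coprime (Nat.card N) N.index from hPN ▸ P.card_coprime_index)
    exact hB.quotient_of_complement N H hH
  push Not at hexp
  obtain ⟨P, x, hx, hxne⟩ := hexp
  rcases hB.sylow_two P with hcyc | hel2 | ⟨m, hm, ⟨e⟩⟩
  · refine hB.quotient_of_cyclic N fun q hq hqN _ Q => ?_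
    have hq2 : q = 2 :=
      (Nat.prime_dvd_prime_iff_eq hq.out Nat.prime_two).mp (hq.out.dvd_of_dvd_pow (hN ▸ hqN))
    subst hq2
    exact (Sylow.equiv P Q).isCyclic.mp hcyc
  · exact absurd (hel2.2 x hx) hxne
  · have hm1 := hB.quaternion_eight P m e
    have hm' : m = 1 := by omega
    subst hm'
    have hone : ∀ w : QuaternionGroup (2 ^ 1), orderOf w = 2 →
        w = QuaternionGroup.a ((2 : ℕ) : ZMod (2 * 2 ^ 1)) := by
      intro w hw
      have hw1 : w ≠ 1 := fun h => by simp [h] at hw
      have hw2 : w * w = 1 := by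
        have := pow_orderOf_eq_one w
        rwa [hw, pow_two] at this
      clear hw
      revert w
      decide
    have hsylow : ∀ Q : Sylow 2 G, ∀ u ∈ (Q : Subgroup G), ∀ v ∈ (Q : Subgroup G),
        orderOf u = 2 → orderOf v = 2 → u = v := by
      intro Q u hu v hv hu2 hv2
      let e' := (Sylow.equiv Q P).trans e
      have key : ∀ y (hy : y ∈ (Q : Subgroup G)), orderOf y = 2 →
          e' ⟨y, hy⟩ = QuaternionGroup.a ((2 : ℕ) : ZMod (2 * 2 ^ 1)) := fun y hy hy2 =>
        hone _ ((orderOf_injective e'.toMonoidHom e'.injective _).trans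
          (by rw [Subgroup.orderOf_mk, hy2]))
      exact congrArg Subtype.val (e'.injective ((key u hu hu2).trans (key v hv hv2).symm))
    have hNone : ∀ a ∈ N, ∀ b ∈ N, a ≠ 1 → b ≠ 1 → a = b := fun a ha b hb ha1 hb1 =>
      hsylow P a (hNp.le_sylow_of_normal P ha) b (hNp.le_sylow_of_normal P hb)
        (orderOf_eq_prime (hel.2 a ha) ha1) (orderOf_eq_prime (hel.2 b hb) hb1)
    obtain ⟨n, hn⟩ := exists_prime_orderOf_dvd_card' 2 (hN ▸ dvd_pow_self 2 (by omega) : 2 ∣ Nat.card N)
    have hn2 : orderOf (n : G) = 2 := by rw [Subgroup.orderOf_coe, hn]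
    have hNcard : Nat.card N = 2 := by
      have hle : N ≤ Subgroup.zpowers (n : G) := fun a ha => by
        by_cases ha1 : a = 1
        · rw [ha1]; exact Subgroup.one_mem _
        · rw [hNone a ha n n.2 ha1 (fun h => by simp [h] at hn2)]
          exact Subgroup.mem_zpowers _
      rw [le_antisymm hle (Subgroup.zpowers_le.mpr n.2), Nat.card_zpowers, hn2]
    refine hB.quotient_two N hNcard (fun Q => ?_) (fun Q u hu hu2 => ?_)
    · rw [Nat.card_congr ((Sylow.equiv Q P).trans e).toEquiv, Nat.card_eq_fintype_card,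
        QuaternionGroup.card]
      rfl
    · rw [hsylow Q u hu n (hNp.le_sylow_of_normal Q n.2) hu2 hn2]
      exact n.2

theorem solvable_abConj_quotient_aux : ∀ (n : ℕ) (G : Type u) [Group G] [Finite G],
    Nat.card G ≤ n → AbConj G → Group.IsSolvable G →
      ∀ (M : Subgroup G) [M.Normal], AbConj (G ⧸ M) := by
  intro n
  induction n with
  | zero => intro G _ _ h; exact absurd Nat.card_pos (not_lt.mpr h)
  | succ n ih =>
    intro G _ _ hn hB hsol M hM
    by_cases hMb : M = ⊥
    · subst hMb
      exact hB.quotient_of_complement ⊥ ⊤ Subgroup.isComplement'_bot_top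
    obtain ⟨N, hN, hNM⟩ := CfsgLib.MinNormal.exists_isMinNormal_le hM hMb
    obtain ⟨p, hp, hel, -⟩ := hN.elementaryAbelian_of_solvable
    have : Fact p.Prime := ⟨hp⟩
    have : N.Normal := hN.1
    have hNp : IsPGroup p N := fun x => ⟨1, Subtype.ext (by simpa using hel.2 x x.2)⟩
    obtain ⟨t, ht⟩ := hNp.exists_card_eq
    have hN1 : 1 < Nat.card N := N.one_lt_card_iff_ne_bot.mpr hN.2.1
    have ht1 : 1 ≤ t := by
      rcases Nat.eq_zero_or_pos t with h | h
      · rw [ht, h] at hN1; simp at hN1
      · exact h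
    have hBq := hB.quotient_minNormal N ht hel ht1
    have hsmall : Nat.card (G ⧸ N) ≤ n := by
      have h1 := N.index_mul_card
      have h3 : 0 < N.index := Nat.pos_of_ne_zero Subgroup.FiniteIndex.index_ne_zero
      show N.index ≤ n
      nlinarith
    have h2 := ih (G ⧸ N) hsmall hBq inferInstance (M.map (QuotientGroup.mk' N))
    let e := QuotientGroup.quotientQuotientEquivQuotient N M hNM
    intro A B hA hB' hcard
    have hcom : ∀ C : Subgroup (G ⧸ M), IsMulCommutative C →
        IsMulCommutative ↥(C.map e.symm.toMonoidHom) := fun C hC => Subgroup.map_isMulCommutative _ _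
    obtain ⟨g, hg⟩ := h2 _ _ (hcom A hA) (hcom B hB') (by
      rw [Subgroup.card_map_of_injective (f := e.symm.toMonoidHom) e.symm.injective,
        Subgroup.card_map_of_injective (f := e.symm.toMonoidHom) e.symm.injective, hcard])
    refine ⟨e g, ?_⟩
    have h3 := congrArg (Subgroup.map e.toMonoidHom) hg
    have hid : e.toMonoidHom.comp e.symm.toMonoidHom = MonoidHom.id _ :=
      MonoidHom.ext fun x => e.apply_symm_apply x
    have hid2 : ∀ C : Subgroup (G ⧸ M), (C.map e.symm.toMonoidHom).map e.toMonoidHom = C := fun C => by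
      rw [Subgroup.map_map, hid, Subgroup.map_id]
    rw [hid2] at h3
    rw [h3, Subgroup.map_map, Subgroup.map_map]
    congr 1
    ext x
    simp

end CfsgLib.BGroup
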