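import Cfsg.Agent.Lib.Struct77.BGroup
import Cfsg.Agent.Lib.TwoGroups.OneInvolution
import Cfsg.Agent.Lib.ConstStab.Basic

set_option autoImplicit false

/-! Sylow subgroups and quotients of groups with conjugate abelian subgroups of equal order. -/

namespace CfsgLib.BGroup

universe u

variable {G : Type u} [Group G] [Finite G]

/-- A Sylow subgroup for an odd prime is cyclic or of exponent dividing `p`. -/
theorem AbConj.sylow_odd (hB : AbConj G) {p : ℕ} [hp : Fact p.Prime] (hp2 : p ≠ 2) (P : Sylow p G) :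
    IsCyclic ↥(P : Subgroup G) ∨ ∀ x ∈ (P : Subgroup G), x ^ p = 1 := by
  rcases hB.unique_or_exponent P.2 with h | h
  · refine Or.inl (CfsgLib.ConstStab.isCyclic_of_unique_prime_subgroup hp2 P.2 ?_)
    intro x y hx1 hxp hyp
    by_cases hy1 : y = 1
    · rw [hy1]; exact Subgroup.one_mem _
    have hx' : orderOf (x : G) = p := by rw [Subgroup.orderOf_coe, orderOf_eq_prime hxp hx1]
    have hy' : orderOf (y : G) = p := by rw [Subgroup.orderOf_coe, orderOf_eq_prime hyp hy1]
    have heq := h x y x.2 y.2 hx' hy'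
    have hm : (y : G) ∈ Subgroup.zpowers (x : G) := heq ▸ Subgroup.mem_zpowers (y : G)
    obtain ⟨i, hi⟩ := Subgroup.mem_zpowers_iff.mp hm
    exact ⟨i, Subtype.ext (by simpa using hi)⟩
  · exact Or.inr h

/-- A Sylow 2-subgroup is cyclic, elementary abelian or generalised quaternion. -/
theorem AbConj.sylow_two (hB : AbConj G) (P : Sylow 2 G) :
    IsCyclic ↥(P : Subgroup G) ∨ Cfsg.IsElementaryAbelian 2 (P : Subgroup G) ∨
      ∃ n : ℕ, 1 ≤ n ∧ Nonempty (↥(P : Subgroup G) ≃* QuaternionGroup (2 ^ n)) := by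
  rcases hB.unique_or_exponent P.2 with h | h
  · have h1 : ∀ a b : ↥(P : Subgroup G), orderOf a = 2 → orderOf b = 2 → a = b := by
      intro a b ha hb
      have ha' : orderOf (a : G) = 2 := by rw [Subgroup.orderOf_coe, ha]
      have hb' : orderOf (b : G) = 2 := by rw [Subgroup.orderOf_coe, hb]
      have heq := h a b a.2 b.2 ha' hb'
      obtain ⟨i, hi⟩ := Subgroup.mem_zpowers_iff.mp
        (show (b : G) ∈ Subgroup.zpowers (a : G) from heq ▸ Subgroup.mem_zpowers (b : G))
      rw [← zpow_mod_orderOf, ha'] at hi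
      rcases Int.emod_two_eq i with h2 | h2 <;> simp [h2] at hi
      · exfalso
        rw [← hi, orderOf_one] at hb'
        exact absurd hb' (by norm_num)
      · exact hi
    rcases CfsgLib.TwoGroups.OneInvolution.isCyclic_or_quaternion P.2 h1 with hc | hq
    · exact Or.inl hc
    · exact Or.inr (Or.inr hq)
  · refine Or.inr (Or.inl ⟨⟨⟨fun a b => Subtype.ext ?_⟩⟩, h⟩)
    have hab := h _ ((P : Subgroup G).mul_mem a.2 b.2)
    have ha := h _ a.2
    have hb := h _ b.2
    rw [pow_two] at hab ha hb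
    show (a : G) * b = b * a
    calc (a : G) * b = (a : G)⁻¹ * (b : G)⁻¹ := by
          rw [inv_eq_of_mul_eq_one_right ha, inv_eq_of_mul_eq_one_right hb]
      _ = ((b : G) * a)⁻¹ := (mul_inv_rev _ _).symm
      _ = (b : G) * a := by
          apply inv_eq_of_mul_eq_one_right
          calc (b : G) * a * (b * a) = b * (a * b * (a * b)) * (b : G)⁻¹ := by group
            _ = 1 := by rw [hab]; group

/-- Minimal supplements: a subgroup mapping onto an abelian image, minimal as such. -/
theorem exists_min_lift (M : Subgroup G) [M.Normal] (A : Subgroup (G ⧸ M)) :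
    ∃ L : Subgroup G, L.map (QuotientGroup.mk' M) = A ∧
      ∀ K : Subgroup G, K < L → K.map (QuotientGroup.mk' M) ≠ A := by
  obtain ⟨L, hL⟩ := (Set.toFinite {K : Subgroup G | K.map (QuotientGroup.mk' M) = A}).exists_minimal
    ⟨A.comap (QuotientGroup.mk' M),
      Subgroup.map_comap_eq_self_of_surjective (QuotientGroup.mk'_surjective M) A⟩
  exact ⟨L, hL.prop, fun K hK hKA => hK.ne (hL.eq_of_le hKA hK.le)⟩

theorem min_lift_inf_le (M : Subgroup G) [M.Normal] {A : Subgroup (G ⧸ M)} {L : Subgroup G}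
    (hL : L.map (QuotientGroup.mk' M) = A)
    (hmin : ∀ K : Subgroup G, K < L → K.map (QuotientGroup.mk' M) ≠ A) {C : Subgroup L}
    (hC : IsCoatom C) : M.subgroupOf L ≤ C := by
  by_contra hle
  have hsup : C ⊔ M.subgroupOf L = ⊤ := hC.2 _ (left_lt_sup.mpr hle)
  apply hmin (C.map L.subtype)
    (lt_of_le_of_ne (Subgroup.map_subtype_le C) fun h => hC.1 (by
      rw [← Subgroup.comap_map_eq_self_of_injective L.subtype_injective C, h]
      exact Subgroup.subgroupOf_self L))
  have h1 : ((C ⊔ M.subgroupOf L).map L.subtype).map (QuotientGroup.mk' M) =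
      L.map (QuotientGroup.mk' M) := by
    rw [hsup, ← MonoidHom.range_eq_map, Subgroup.range_subtype]
  rw [Subgroup.map_sup, Subgroup.map_sup] at h1
  have h2 : ((M.subgroupOf L).map L.subtype).map (QuotientGroup.mk' M) = ⊥ := by
    rw [Subgroup.map_eq_bot_iff, QuotientGroup.ker_mk']
    rintro _ ⟨x, hx, rfl⟩
    exact hx
  rw [h2, sup_bot_eq, hL] at h1
  exact h1

theorem min_lift_nilpotent (M : Subgroup G) [M.Normal] {A : Subgroup (G ⧸ M)}
    (hA : IsMulCommutative A) {L : Subgroup G} (hL : L.map (QuotientGroup.mk' M) = A)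
    (hmin : ∀ K : Subgroup G, K < L → K.map (QuotientGroup.mk' M) ≠ A) :
    Group.IsNilpotent L := by
  refine ((Group.isNilpotent_of_finite_tfae (G := L)).out 0 2).mpr ?_
  intro C hC
  refine ⟨fun c hc x => ?_⟩
  have hcomm : x * c * x⁻¹ * c⁻¹ ∈ M.subgroupOf L := by
    rw [Subgroup.mem_subgroupOf, ← QuotientGroup.eq_one_iff]
    have hx : QuotientGroup.mk' M (x : G) ∈ A := hL ▸ ⟨x, x.2, rfl⟩
    have hc' : QuotientGroup.mk' M (c : G) ∈ A := hL ▸ ⟨c, c.2, rfl⟩
    have := congrArg Subtype.val (hA.is_comm.comm ⟨_, hx⟩ ⟨_, hc'⟩)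
    show QuotientGroup.mk' M (((x * c * x⁻¹ * c⁻¹ : L) : G)) = 1
    simp only [Subgroup.coe_mul, Subgroup.coe_inv, map_mul, map_inv] at this ⊢
    rw [this]; group
  have := C.mul_mem (min_lift_inf_le M hL hmin hC hcomm) hc
  simpa using this

/-- The key facts about minimal lifts of abelian subgroups: Sylow orders and commutativity. -/
theorem AbConj.min_lift_sylow (hB : AbConj G) (M : Subgroup G) [M.Normal]
    (hM : ∀ (r : ℕ) (_ : Fact r.Prime), r ∣ Nat.card M → r ∣ M.index →
      ∀ P : Sylow r G, IsCyclic ↥(P : Subgroup G)) {A : Subgroup (G ⧸ M)} (hA : IsMulCommutative A) {L : Subgroup G}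
    (hL : L.map (QuotientGroup.mk' M) = A)
    (hmin : ∀ K : Subgroup G, K < L → K.map (QuotientGroup.mk' M) ≠ A)
    {q : ℕ} [hq : Fact q.Prime] (R : Sylow q L) :
    Nat.card (R : Subgroup L) = (if q ∣ Nat.card A then
      q ^ ((Nat.card A).factorization q + (Nat.card M).factorization q) else 1) ∧
    IsMulCommutative ↥(R : Subgroup L) := by
  have hnil := min_lift_nilpotent M hA hL hmin
  have hcardA : Nat.card A * Nat.card (M.subgroupOf L) = Nat.card L := by
    let φ : L →* G ⧸ M := (QuotientGroup.mk' M).comp L.subtype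
    have hrange : φ.range = A := by rw [MonoidHom.range_comp, Subgroup.range_subtype, hL]
    have hker : φ.ker = M.subgroupOf L := by
      ext x
      simp [φ, MonoidHom.mem_ker, Subgroup.mem_subgroupOf]
    rw [← hrange, ← Subgroup.index_ker, hker]
    exact (M.subgroupOf L).index_mul_card
  by_cases hqA : q ∣ Nat.card A
  swap
  · rw [if_neg hqA]
    suffices h : (R : Subgroup L) = ⊥ by
      rw [h]
      exact ⟨Subgroup.card_bot, ⟨⟨fun a b => Subsingleton.elim _ _⟩⟩⟩
    by_contra hR
    -- a coatom of `L` of index divisible only by `q`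
    have hall : ∀ (p : ℕ) (_hp : Fact p.Prime) (P : Sylow p L), (P : Subgroup L).Normal :=
      ((Group.isNilpotent_of_finite_tfae (G := L)).out 0 3).mp hnil
    have hRn : (R : Subgroup L).Normal := hall q hq R
    obtain ⟨K, hK⟩ := Subgroup.exists_left_complement'_of_coprime R.card_coprime_index
    have hKtop : K ≠ ⊤ := by
      intro h
      rw [h] at hK
      exact hR (Subgroup.isComplement'_top_left.mp hK)
    obtain ⟨C, hC, hKC⟩ := (eq_top_or_exists_le_coatom K).resolve_left hKtop
    have h1 : C.index ∣ Nat.card (R : Subgroup L) := by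
      rw [← hK.symm.index_eq_card]; exact Subgroup.index_dvd_of_le hKC
    have h2 : C.index ∣ Nat.card A := by
      have h4 := Subgroup.index_dvd_of_le (min_lift_inf_le M hL hmin hC)
      have h5 : (M.subgroupOf L).index = Nat.card A := by
        apply Nat.eq_of_mul_eq_mul_right (Nat.card_pos (α := M.subgroupOf L))
        rw [Subgroup.index_mul_card, hcardA]
      rwa [h5] at h4
    obtain ⟨i, hi⟩ := R.2.exists_card_eq
    rw [hi] at h1
    obtain ⟨j, -, hj⟩ := (Nat.dvd_prime_pow hq.out).mp h1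
    rcases Nat.eq_zero_or_pos j with rfl | hj0
    · exact hC.1 (Subgroup.index_eq_one.mp (by simpa using hj))
    · exact hqA ((dvd_pow_self q hj0.ne').trans (hj ▸ h2))
  rw [if_pos hqA]
  by_cases hqM : q ∣ Nat.card M
  swap
  · have hdisj : ∀ x ∈ (R : Subgroup L), (x : G) ∈ M → x = 1 := by
      intro x hx hxM
      obtain ⟨i, hi⟩ := IsPGroup.iff_orderOf.mp R.2 ⟨x, hx⟩
      rw [Subgroup.orderOf_mk, ← Subgroup.orderOf_coe] at hi
      rcases Nat.eq_zero_or_pos i with rfl | hi0
      · exact Subtype.ext (orderOf_eq_one_iff.mp (by simpa using hi))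
      · exact absurd ((dvd_pow_self q hi0.ne').trans (hi ▸ Subgroup.orderOf_dvd_natCard M hxM)) hqM
    constructor
    · rw [Nat.factorization_eq_zero_of_not_dvd hqM, add_zero, R.card_eq_multiplicity, ← hcardA,
        Nat.factorization_mul Nat.card_pos.ne' Nat.card_pos.ne', Finsupp.add_apply,
        Nat.factorization_eq_zero_of_not_dvd (n := Nat.card (M.subgroupOf L)), add_zero]
      intro h
      apply hqM
      refine h.trans ?_
      rw [← Subgroup.card_map_of_injective L.subtype_injective]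
      apply Subgroup.card_dvd_of_le
      rintro _ ⟨x, hx, rfl⟩
      exact hx
    · refine ⟨⟨fun a b => Subtype.ext ?_⟩⟩
      have hmem : ((a : L) * b * (a : L)⁻¹ * (b : L)⁻¹) ∈ (R : Subgroup L) :=
        Subgroup.mul_mem _ (Subgroup.mul_mem _ (Subgroup.mul_mem _ a.2 b.2) (Subgroup.inv_mem _ a.2))
          (Subgroup.inv_mem _ b.2)
      have h1 := hdisj _ hmem (by
        rw [← QuotientGroup.eq_one_iff]
        have hx : QuotientGroup.mk' M ((a : L) : G) ∈ A := hL ▸ ⟨_, (a : L).2, rfl⟩
        have hy : QuotientGroup.mk' M ((b : L) : G) ∈ A := hL ▸ ⟨_, (b : L).2, rfl⟩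
        have := congrArg Subtype.val (hA.is_comm.comm ⟨_, hx⟩ ⟨_, hy⟩)
        show QuotientGroup.mk' M _ = 1
        simp only [Subgroup.coe_mul, Subgroup.coe_inv, map_mul, map_inv] at this ⊢
        rw [this]; group)
      exact mul_inv_eq_iff_eq_mul.mp (mul_inv_eq_one.mp h1)
  -- here the Sylow subgroups of `G` are cyclic
  obtain ⟨P, hP⟩ := (R.2.map L.subtype).exists_le_sylow
  have hqG : q ∣ M.index :=
    hqA.trans (Subgroup.card_subgroup_dvd_card A)
  have hcyc : IsCyclic ↥(P : Subgroup G) := hM q hq hqM hqG P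
  set R' := (R : Subgroup L).map L.subtype with hR'
  have hR'cyc : IsMulCommutative ↥R' := by
    have : IsMulCommutative ↥(P : Subgroup G) := inferInstance
    refine ⟨⟨fun a b => Subtype.ext ?_⟩⟩
    have h := this.is_comm.comm (⟨(a : G), hP a.2⟩ : ↥(P : Subgroup G)) ⟨(b : G), hP b.2⟩
    exact (congrArg Subtype.val h :)
  constructor
  swap
  · refine ⟨⟨fun a b => Subtype.ext (Subtype.ext ?_)⟩⟩
    have h := hR'cyc.is_comm.comm (⟨((a : L) : G), ⟨_, a.2, rfl⟩⟩ : ↥R') ⟨((b : L) : G), ⟨_, b.2, rfl⟩⟩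
    exact (congrArg Subtype.val h :)
  rw [R.card_eq_multiplicity]
  congr 1
  rw [← hcardA, Nat.factorization_mul Nat.card_pos.ne' Nat.card_pos.ne', Finsupp.add_apply]
  congr 1
  have hML : Nat.card (M.subgroupOf L) = Nat.card (M ⊓ L : Subgroup G) := by
    rw [← Subgroup.subgroupOf_map_subtype, Subgroup.card_map_of_injective L.subtype_injective]
  rw [hML]
  refine le_antisymm ((Nat.factorization_le_iff_dvd Nat.card_pos.ne' Nat.card_pos.ne').mpr
    (Subgroup.card_dvd_of_le inf_le_left) q) ?_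
  rw [← hq.out.pow_dvd_iff_le_factorization Nat.card_pos.ne']
  -- `M ∩ P ≤ R'`
  have hMP : Nat.card (M ⊓ (P : Subgroup G) : Subgroup G) = q ^ (Nat.card M).factorization q := by
    obtain ⟨i, hi⟩ := (P.2.to_le (inf_le_right : M ⊓ (P : Subgroup G) ≤ _)).exists_card_eq
    rw [hi]
    congr 1
    refine le_antisymm ((hq.out.pow_dvd_iff_le_factorization Nat.card_pos.ne').mp
      (hi ▸ Subgroup.card_dvd_of_le inf_le_left)) ?_
    have h1 : M.relIndex (P : Subgroup G) ∣ M.index := Subgroup.relIndex_dvd_index_of_normal _ _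
    have h2 : Nat.card (P : Subgroup G) = Nat.card (M ⊓ (P : Subgroup G) : Subgroup G) *
        M.relIndex (P : Subgroup G) := by
      rw [← (M.subgroupOf (P : Subgroup G)).card_mul_index, ← Subgroup.subgroupOf_map_subtype,
        Subgroup.card_map_of_injective (P : Subgroup G).subtype_injective]
      rfl
    have h3 : q ^ (Nat.card G).factorization q ∣ q ^ i * q ^ M.index.factorization q := by
      rw [← P.card_eq_multiplicity, h2, hi]
      obtain ⟨j, -, hj⟩ := (Nat.dvd_prime_pow hq.out).mp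
        (show M.relIndex (P : Subgroup G) ∣ q ^ (Nat.card G).factorization q by
          rw [← P.card_eq_multiplicity, h2]; exact dvd_mul_left _ _)
      rw [hj]
      exact mul_dvd_mul_left _ (pow_dvd_pow q
        ((hq.out.pow_dvd_iff_le_factorization Subgroup.FiniteIndex.index_ne_zero).mp (hj ▸ h1)))
    rw [← pow_add, Nat.pow_dvd_pow_iff_le_right hq.out.one_lt, ← M.card_mul_index,
      Nat.factorization_mul Nat.card_pos.ne' Subgroup.FiniteIndex.index_ne_zero,
      Finsupp.add_apply] at h3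
    omega
  rw [← hMP]
  refine Subgroup.card_dvd_of_le (le_inf inf_le_left ?_)
  -- either `M ∩ P ≤ R'` or `R' ≤ M`, the latter contradicting `q ∣ |A|`
  obtain ⟨iR, hiR⟩ := (P.2.to_le hP).exists_card_eq
  have hsub : ∀ S : Subgroup G, S ≤ (P : Subgroup G) →
      Nat.card (S.subgroupOf (P : Subgroup G)) = Nat.card S := fun S hS =>
    Nat.card_congr (Subgroup.subgroupOfEquivOfLe hS).toEquiv
  by_cases hle : (Nat.card M).factorization q ≤ iR
  · have h4 := le_of_card_dvd_of_cyclic (H := (M ⊓ (P : Subgroup G)).subgroupOf (P : Subgroup G))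
      (K := R'.subgroupOf (P : Subgroup G))
      (by rw [hsub _ inf_le_right, hsub _ hP, hMP, hiR]; exact pow_dvd_pow q hle)
    intro x hx
    have h5 : x ∈ R' := h4 (show (⟨x, hx.2⟩ : (P : Subgroup G)) ∈ _ from hx)
    obtain ⟨y, hy, rfl⟩ := h5
    exact y.2
  · exfalso
    have h4 := le_of_card_dvd_of_cyclic (H := R'.subgroupOf (P : Subgroup G))
      (K := (M ⊓ (P : Subgroup G)).subgroupOf (P : Subgroup G))
      (by rw [hsub _ inf_le_right, hsub _ hP, hMP, hiR]; exact pow_dvd_pow q (by omega))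
    have hRM : (R : Subgroup L) ≤ M.subgroupOf L := fun x hx =>
      (h4 (show (⟨(x : G), hP ⟨x, hx, rfl⟩⟩ : (P : Subgroup G)) ∈ R'.subgroupOf _ from
        ⟨x, hx, rfl⟩)).1
    have h7 : (M.subgroupOf L).index = Nat.card A := by
      apply Nat.eq_of_mul_eq_mul_right (Nat.card_pos (α := M.subgroupOf L))
      rw [Subgroup.index_mul_card, hcardA]
    exact R.not_dvd_index (hqA.trans (h7 ▸ Subgroup.index_dvd_of_le hRM))

/-- `AbConj` passes to quotients whose common primes have cyclic Sylow subgroups. -/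
theorem AbConj.quotient_of_cyclic (hB : AbConj G) (M : Subgroup G) [M.Normal]
    (hM : ∀ (r : ℕ) (_ : Fact r.Prime), r ∣ Nat.card M → r ∣ M.index →
      ∀ P : Sylow r G, IsCyclic ↥(P : Subgroup G)) : AbConj (G ⧸ M) := by
  classical
  intro A B hA hB' hcard
  obtain ⟨LA, hLA, hminA⟩ := exists_min_lift M A
  obtain ⟨LB, hLB, hminB⟩ := exists_min_lift M B
  have hab : ∀ (L : Subgroup G) (C : Subgroup (G ⧸ M)), IsMulCommutative C →
      L.map (QuotientGroup.mk' M) = C →
      (∀ K : Subgroup G, K < L → K.map (QuotientGroup.mk' M) ≠ C) → IsMulCommutative L := by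
    intro L C hC hL hmin
    have hnil := min_lift_nilpotent M hC hL hmin
    have e := Classical.choice ((Group.isNilpotent_of_finite_tfae (G := L)).out 0 4 |>.mp hnil)
    refine ⟨⟨fun a b => e.symm.injective ?_⟩⟩
    rw [map_mul, map_mul]
    ext q Q : 2
    have := Fact.mk (Nat.prime_of_mem_primeFactors q.2)
    exact (hB.min_lift_sylow M hM hC hL hmin Q).2.is_comm.comm _ _
  have hcardL : Nat.card LA = Nat.card LB := by
    refine Nat.eq_of_factorization_eq Nat.card_pos.ne' Nat.card_pos.ne' fun q => ?_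
    by_cases hq : q.Prime
    swap
    · rw [Nat.factorization_eq_zero_of_not_prime _ hq, Nat.factorization_eq_zero_of_not_prime _ hq]
    have : Fact q.Prime := ⟨hq⟩
    let RA : Sylow q LA := default
    let RB : Sylow q LB := default
    have h1 := (hB.min_lift_sylow M hM hA hLA hminA RA).1
    have h2 := (hB.min_lift_sylow M hM hB' hLB hminB RB).1
    rw [RA.card_eq_multiplicity] at h1
    rw [RB.card_eq_multiplicity, ← hcard, ← h1] at h2
    exact Nat.pow_right_injective hq.two_le h2.symm
  obtain ⟨g, hg⟩ := hB LA LB (hab LA A hA hLA hminA) (hab LB B hB' hLB hminB) hcardL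
  refine ⟨QuotientGroup.mk' M g, ?_⟩
  rw [← hLB, hg, ← hLA, Subgroup.map_map, Subgroup.map_map]
  congr 1

/-- `AbConj` passes to quotients by normal subgroups of odd order. -/
theorem AbConj.quotient_odd (hB : AbConj G) (M : Subgroup G) [M.Normal]
    (hM : Odd (Nat.card M)) : AbConj (G ⧸ M) := by
  refine hB.quotient_of_cyclic M fun q hq hqM hqG P => ?_
  have hq2 : q ≠ 2 := by
    rintro rfl
    exact (Nat.not_even_iff_odd.mpr hM) (even_iff_two_dvd.mpr hqM)
  refine (hB.sylow_odd hq2 P).resolve_right fun hexp => ?_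
  obtain ⟨m, hm⟩ := exists_prime_orderOf_dvd_card' q hqM
  have hPM : (P : Subgroup G) ≤ M := by
    intro x hx
    by_cases hx1 : x = 1
    · rw [hx1]; exact M.one_mem
    exact hB.mem_normal m.2 (by rw [Subgroup.orderOf_coe, hm, orderOf_eq_prime (hexp x hx) hx1])
  exact P.not_dvd_index (hqG.trans (Subgroup.index_dvd_of_le hPM))

end CfsgLib.BGroup
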