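import Mathlib
import Cfsg.Agent.Lib.SchurCover.Universal

/-!
Central extensions of commutative groups given by bilinear maps, and the commutator subgroup of a
central extension of a two-generated commutative group.
-/

set_option autoImplicit false

namespace CfsgLib.BilinExt

open Subgroup
open scoped commutatorElement

universe u v

variable {G : Type u} {C : Type v} [CommGroup G] [CommGroup C]

/-- The central extension with cocycle `β`. -/
@[ext]
structure Ext (β : G →* G →* C) where
  /-- base coordinate -/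
  g : G
  /-- central coordinate -/
  c : C

variable {β : G →* G →* C}

instance : Mul (Ext β) := ⟨fun a b => ⟨a.g * b.g, a.c * b.c * β a.g b.g⟩⟩
instance : One (Ext β) := ⟨⟨1, 1⟩⟩
instance : Inv (Ext β) := ⟨fun a => ⟨a.g⁻¹, a.c⁻¹ * β a.g a.g⟩⟩

@[simp] theorem mul_g (a b : Ext β) : (a * b).g = a.g * b.g := rfl
@[simp] theorem mul_c (a b : Ext β) : (a * b).c = a.c * b.c * β a.g b.g := rfl
@[simp] theorem one_g : (1 : Ext β).g = 1 := rfl
@[simp] theorem one_c : (1 : Ext β).c = 1 := rfl
@[simp] theorem inv_g (a : Ext β) : a⁻¹.g = a.g⁻¹ := rfl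
@[simp] theorem inv_c (a : Ext β) : a⁻¹.c = a.c⁻¹ * β a.g a.g := rfl

instance : Group (Ext β) where
  mul_assoc a b c := by
    ext
    · simp [mul_assoc]
    · simp only [mul_c, mul_g, map_mul, MonoidHom.mul_apply, mul_assoc]
      simp [mul_comm, mul_left_comm]
  one_mul a := by ext <;> simp
  mul_one a := by ext <;> simp
  inv_mul_cancel a := by
    ext
    · simp
    · simp only [mul_c, inv_c, inv_g, one_c, map_inv, MonoidHom.inv_apply]
      calc a.c⁻¹ * β a.g a.g * a.c * (β a.g a.g)⁻¹ = (a.c⁻¹ * a.c) * (β a.g a.g * (β a.g a.g)⁻¹) := by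
            ac_rfl
        _ = 1 := by simp

/-- The coordinates. -/
def equivProd : Ext β ≃ G × C where
  toFun a := (a.g, a.c)
  invFun q := ⟨q.1, q.2⟩
  left_inv _ := rfl
  right_inv _ := rfl

instance [Finite G] [Finite C] : Finite (Ext β) := Finite.of_equiv _ equivProd.symm

/-- The projection. -/
def proj (β : G →* G →* C) : Ext β →* G where
  toFun a := a.g
  map_one' := rfl
  map_mul' _ _ := rfl

theorem proj_surjective : Function.Surjective (proj β) := fun g => ⟨⟨g, 1⟩, rfl⟩

/-- The central subgroup as a homomorphism. -/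
def inC (β : G →* G →* C) : C →* Ext β where
  toFun c := ⟨1, c⟩
  map_one' := rfl
  map_mul' c d := by ext <;> simp

theorem inC_injective : Function.Injective (inC β) := fun _ _ h => congrArg Ext.c h

theorem range_inC : (inC β).range = (proj β).ker := by
  ext x
  constructor
  · rintro ⟨c, rfl⟩; rfl
  · intro h
    exact ⟨x.c, Ext.ext (MonoidHom.mem_ker.1 h).symm rfl⟩

theorem ker_proj_le_center : (proj β).ker ≤ center (Ext β) := by
  intro x hx
  have hg : x.g = 1 := hx
  rw [mem_center_iff]
  intro y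
  ext
  · simp [hg]
  · simp [hg, mul_comm]

/-- Commutators are given by the antisymmetrisation of `β`. -/
theorem commutator_lift (g h : G) :
    ⁅(⟨g, 1⟩ : Ext β), (⟨h, 1⟩ : Ext β)⁆ = inC β (β g h * (β h g)⁻¹) := by
  rw [commutatorElement_def, mul_inv_eq_iff_eq_mul, mul_inv_eq_iff_eq_mul]
  ext
  · simp [inC, mul_comm]
  · simp [inC]

theorem inC_mem (g h : G) :
    inC β (β g h * (β h g)⁻¹) ∈ (proj β).ker ⊓ commutator (Ext β) := by
  refine ⟨?_, ?_⟩
  · rfl
  · rw [← commutator_lift]
    exact commutator_mem_commutator (mem_top _) (mem_top _)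

/-- A nonsymmetric bilinear map gives a non-trivial multiplier. -/
theorem eq_swap_of_trivial_multiplier [Finite G] (h : Cfsg.HasCyclicSchurMultiplier G 1)
    (β : G →* G →* C) (g g' : G) : β g g' = β g' g := by
  have hm := inC_mem (β := β) g g'
  rw [CfsgLib.SchurCover.ker_inf_commutator_eq_bot h (proj β) proj_surjective ker_proj_le_center,
    mem_bot] at hm
  have := congrArg Ext.c hm
  exact mul_inv_eq_one.1 this

/-- Bilinearity of commutators in the second argument. -/
theorem commutator_pow_right {Γ : Type u} [Group Γ] {a b : Γ} (hc : ⁅a, b⁆ ∈ center Γ) (k : ℕ) :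
    ⁅a, b ^ k⁆ = ⁅a, b⁆ ^ k := by
  induction k with
  | zero => simp
  | succ k ih =>
    rw [pow_succ, pow_succ]
    calc ⁅a, b ^ k * b⁆ = ⁅a, b ^ k⁆ * (b ^ k * ⁅a, b⁆ * (b ^ k)⁻¹) := by
          simp only [commutatorElement_def]; group
      _ = _ := by rw [ih, mem_center_iff.1 hc (b ^ k), mul_inv_cancel_right]

/-- The derived subgroup of a central extension of a two-generated abelian group. -/
theorem commutator_le_zpowers {Γ : Type v} [Group Γ] (σ : Γ →* G) (hc : σ.ker ≤ center Γ)
    (a b : Γ) (hgen : closure ({σ a, σ b} : Set G) = ⊤) :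
    ⁅a, b⁆ ∈ σ.ker ∧ commutator Γ ≤ zpowers ⁅a, b⁆ := by
  have hker : ∀ x y : Γ, ⁅x, y⁆ ∈ σ.ker := fun x y => by
    rw [MonoidHom.mem_ker, map_commutatorElement, commutatorElement_eq_one_iff_mul_comm, mul_comm]
  refine ⟨hker a b, ?_⟩
  set N := zpowers ⁅a, b⁆ with hN
  have hNc : N ≤ center Γ := zpowers_le.2 (hc (hker a b))
  have : N.Normal := ⟨fun x hx g => by
    rwa [mem_center_iff.1 (hNc hx) g, mul_inv_cancel_right]⟩
  -- everything is a word in `a`, `b` and the kernel
  have htop : closure ({a, b} : Set Γ) ⊔ σ.ker = ⊤ := by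
    rw [← comap_map_eq, MonoidHom.map_closure, Set.image_pair, hgen, comap_top]
  let π : Γ →* Γ ⧸ N := QuotientGroup.mk' N
  have hgenQ : closure ({π a, π b} : Set (Γ ⧸ N)) ⊔ σ.ker.map π = ⊤ := by
    rw [← Set.image_pair, ← MonoidHom.map_closure, ← Subgroup.map_sup, htop,
      map_top_of_surjective π (QuotientGroup.mk'_surjective N)]
  have hkc : σ.ker.map π ≤ center (Γ ⧸ N) := by
    rintro _ ⟨z, hz, rfl⟩
    rw [mem_center_iff]
    intro q
    obtain ⟨y, rfl⟩ := QuotientGroup.mk'_surjective N q
    rw [← map_mul, ← map_mul, mem_center_iff.1 (hc hz) y]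
  have hab : π a * π b = π b * π a := by
    rw [← commutatorElement_eq_one_iff_mul_comm, ← map_commutatorElement]
    exact (QuotientGroup.eq_one_iff _).2 (mem_zpowers _)
  have hcz : ∀ q ∈ ({π a, π b} : Set (Γ ⧸ N)), q ∈ center (Γ ⧸ N) := by
    intro q hq
    have hle : (⊤ : Subgroup (Γ ⧸ N)) ≤ centralizer ({q} : Set (Γ ⧸ N)) := by
      rw [← hgenQ, sup_le_iff, closure_le]
      refine ⟨?_, hkc.trans (center_le_centralizer _)⟩
      intro r hr
      rw [SetLike.mem_coe, mem_centralizer_singleton_iff]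
      rcases hq with rfl | rfl <;> rcases hr with rfl | rfl
      exacts [rfl, hab.symm, hab, rfl]
    rw [mem_center_iff]
    intro r
    exact mem_centralizer_singleton_iff.1 (hle (mem_top r))
  have hct : center (Γ ⧸ N) = ⊤ := by
    rw [eq_top_iff, ← hgenQ]
    exact sup_le ((closure_le _).2 hcz) hkc
  rw [_root_.commutator_def, commutator_le]
  intro x _ y _
  refine (QuotientGroup.eq_one_iff _).1 ?_
  show π ⁅x, y⁆ = 1
  rw [map_commutatorElement, commutatorElement_eq_one_iff_mul_comm]
  exact mem_center_iff.1 (hct ▸ mem_top (π y)) (π x)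

end CfsgLib.BilinExt
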