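import Cfsg.Agent.Lib.SchurCover.Universal

/-!
Complements of the multiplier subgroup in the kernel of `F / [R, F] → Q`: they are free abelian,
so homomorphisms out of them lift through surjections and extend into divisible groups.
-/

set_option autoImplicit false

namespace CfsgLib.CoverLift

open Subgroup CfsgLib.SchurCover

universe u v w

variable {X : Type w} {Q : Type v} [Group Q] (p : FreeGroup X →* Q)
  {C : Subgroup (Bar p)}

/-- Exponent sums are injective on a complement. -/
theorem barExp_injOn (hC : C ⊓ commutator (Bar p) = ⊥) :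
    Function.Injective ((barExp p).comp C.subtype) := by
  rw [injective_iff_map_eq_one]
  intro x hx
  have h : (x : Bar p) ∈ C ⊓ commutator (Bar p) := ⟨x.2, by rw [← ker_barExp]; exact hx⟩
  rw [hC, mem_bot] at h
  exact Subtype.ext h

/-- Homomorphisms out of a complement lift through surjections of abelian groups. -/
theorem exists_lift_through [Finite X] (hCK : C ≤ (barHom p).ker) (hC : C ⊓ commutator (Bar p) = ⊥)
    {A : Type u} {B : Type*} [CommGroup A] [CommGroup B] (π : A →* B) (hπ : Function.Surjective π)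
    (φ : C →* B) : ∃ t : C →* A, π.comp t = φ := by
  let _ : CommGroup C :=
    { (inferInstance : Group C) with
      mul_comm := fun a b =>
        Subtype.ext ((mem_center_iff.1 (ker_barHom_le_center p (hCK b.2)) a)) }
  let f : Additive C →ₗ[ℤ] (X →₀ ℤ) :=
    (MonoidHom.toAdditiveLeft ((barExp p).comp C.subtype)).toIntLinearMap
  have hf : Function.Injective f := fun a b h =>
    barExp_injOn p hC (congrArg Multiplicative.ofAdd h)
  have : Module.Free ℤ (LinearMap.range f) := inferInstance
  have : Module.Free ℤ (Additive C) := Module.Free.of_equiv (LinearEquiv.ofInjective f hf).symm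
  obtain ⟨s, hs⟩ := Module.projective_lifting_property (MonoidHom.toAdditive π).toIntLinearMap
    (MonoidHom.toAdditive φ).toIntLinearMap hπ
  refine ⟨AddMonoidHom.toMultiplicative s.toAddMonoidHom, ?_⟩
  refine MonoidHom.ext fun c => ?_
  exact congrArg Additive.toMul (LinearMap.congr_fun hs (Additive.ofMul c))

/-- The nonzero complex numbers form a divisible group. -/
noncomputable instance divisibleUnits : DivisibleBy (Additive ℂˣ) ℤ :=
  letI : DivisibleBy (Additive ℂˣ) ℕ := divisibleByOfSMulRightSurj _ _ fun {n} hn x => by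
    obtain ⟨z, hz⟩ := IsAlgClosed.exists_pow_nat_eq ((Additive.toMul x : ℂˣ) : ℂ) (Nat.pos_of_ne_zero hn)
    have hz0 : z ≠ 0 := by
      rintro rfl
      rw [zero_pow hn] at hz
      exact (Additive.toMul x : ℂˣ).ne_zero hz.symm
    exact ⟨Additive.ofMul (Units.mk0 z hz0), Additive.toMul.injective (Units.ext (by rw [toMul_nsmul]; simpa using hz))⟩
  AddGroup.divisibleByIntOfDivisibleByNat (Additive ℂˣ)

/-- Homomorphisms from a complement to `ℂˣ` extend to `F / [R, F]`. -/
theorem exists_extension_units (hC : C ⊓ commutator (Bar p) = ⊥) (φ : C →* ℂˣ) :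
    ∃ χ : Bar p →* ℂˣ, χ.comp C.subtype = φ := by
  let i : Additive C →+ (X →₀ ℤ) := MonoidHom.toAdditiveLeft ((barExp p).comp C.subtype)
  let R : AddSubgroup (X →₀ ℤ) := i.range
  have hi : Function.Injective i := fun a b h => barExp_injOn p hC (congrArg Multiplicative.ofAdd h)
  let e : Additive C ≃+ R := AddMonoidHom.ofInjective hi
  obtain ⟨h, hh⟩ := (Module.Baer.of_divisible (Additive ℂˣ)).extension_property
    R.subtype.toIntLinearMap Subtype.val_injective
    ((MonoidHom.toAdditive φ).comp e.symm.toAddMonoidHom).toIntLinearMap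
  refine ⟨(AddMonoidHom.toMultiplicativeLeft h.toAddMonoidHom).comp (barExp p), MonoidHom.ext fun c => ?_⟩
  have h1 := LinearMap.congr_fun hh (e (Additive.ofMul c))
  have h2 : h (i (Additive.ofMul c)) = Additive.ofMul (φ c) := by
    refine h1.trans ?_
    simp
  exact congrArg Additive.toMul h2

/-- The stem extension attached to a complement. -/
theorem stem_of_complement [Finite Q] (hp : Function.Surjective p) [C.Normal]
    (hCK : C ≤ (barHom p).ker) (hC : C ⊓ commutator (Bar p) = ⊥)
    (hCm : (barHom p).ker ≤ C ⊔ mult p) :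
    Finite (Bar p ⧸ C) ∧ Cfsg.IsStemExtension (QuotientGroup.lift C (barHom p) hCK) ∧
      Nonempty (mult p ≃* (QuotientGroup.lift C (barHom p) hCK).ker) := by
  let π : Bar p →* Bar p ⧸ C := QuotientGroup.mk' C
  let σ : Bar p ⧸ C →* Q := QuotientGroup.lift C (barHom p) hCK
  have hker : σ.ker = (mult p).map π := by
    apply le_antisymm
    · intro y hy
      obtain ⟨x, rfl⟩ := QuotientGroup.mk'_surjective C y
      have hx : x ∈ (barHom p).ker := hy
      have := mem_map_of_mem π (hCm hx)
      rw [Subgroup.map_sup, (map_eq_bot_iff C).2 (QuotientGroup.ker_mk' C).ge, bot_sup_eq] at this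
      exact this
    · rintro _ ⟨x, hx, rfl⟩
      exact hx.1
  have hinj : Function.Injective (π.comp (mult p).subtype) := by
    rw [injective_iff_map_eq_one]
    intro x hx
    have : (x : Bar p) ∈ C ⊓ commutator (Bar p) := ⟨(QuotientGroup.eq_one_iff _).1 hx, x.2.2⟩
    rw [hC, mem_bot] at this
    exact Subtype.ext this
  have hcard : (π.comp (mult p).subtype).range = σ.ker := by
    rw [hker, MonoidHom.range_comp, Subgroup.range_subtype]
  have := finite_mult p
  let e : mult p ≃* σ.ker :=
    (MonoidHom.ofInjective hinj).trans (MulEquiv.subgroupCongr hcard)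
  have : Finite σ.ker := Finite.of_equiv _ e.toEquiv
  refine ⟨Nat.finite_of_card_ne_zero ?_, ⟨?_, ?_, ?_⟩, ⟨e⟩⟩
  · rw [← index_mul_card σ.ker, index_ker]
    exact Nat.mul_ne_zero Nat.card_pos.ne' Nat.card_pos.ne'
  · intro q
    obtain ⟨x, hx⟩ := barHom_surjective p hp q
    exact ⟨π x, hx⟩
  · show σ.ker ≤ _
    rw [hker]
    rintro _ ⟨x, hx, rfl⟩
    rw [mem_center_iff]
    intro y
    obtain ⟨y, rfl⟩ := QuotientGroup.mk'_surjective C y
    rw [← map_mul, ← map_mul, mem_center_iff.1 (ker_barHom_le_center p hx.1) y]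
  · show σ.ker ≤ _
    rw [hker]
    rintro _ ⟨x, hx, rfl⟩
    rw [← map_commutator_eq π (QuotientGroup.mk'_surjective C)]
    exact mem_map_of_mem π hx.2

/-- A lift of a presentation to a stem extension is onto. -/
theorem lift_surjective (hp : Function.Surjective p) {Δ : Type u} [Group Δ] {τ : Δ →* Q}
    (hτ : Cfsg.IsStemExtension τ) {g : Bar p →* Δ} (hg : τ.comp g = barHom p) :
    Function.Surjective g := by
  intro d
  obtain ⟨x, hx⟩ := barHom_surjective p hp (τ d)
  have hk : (g x)⁻¹ * d ∈ τ.ker := by
    rw [MonoidHom.mem_ker, map_mul, map_inv, ← MonoidHom.comp_apply, hg, hx, inv_mul_cancel]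
  have hm : (g x)⁻¹ * d ∈ (mult p).map g := by
    rw [mult_map_eq p hp τ hτ.2.1 g hg, inf_eq_left.2 hτ.2.2]; exact hk
  obtain ⟨m, -, hm⟩ := hm
  exact ⟨x * m, by rw [map_mul, hm, mul_inv_cancel_left]⟩

end CfsgLib.CoverLift
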