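import Cfsg.Agent.Lib.Struct77.ZipperGen

/-!
If a finite group is the normal closure of an element `a`, the images of the conjugates of `a`
under any iterate of `b ↦ b * a * b⁻¹` generate it together with `a`.
-/

set_option autoImplicit false

namespace CfsgLib.IterCommutator

open Subgroup CfsgLib.ZipperGen
open scoped Pointwise

universe u

theorem closure_iterate : ∀ (n : ℕ) (G : Type u) [Group G] [Finite G], Nat.card G ≤ n →
    ∀ a : G, Subgroup.normalClosure ({a} : Set G) = ⊤ → ∀ k : ℕ,
      closure ({a} ∪ Set.range (fun g : G => (fun b => b * a * b⁻¹)^[k] (g * a * g⁻¹))) = ⊤ := by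
  intro n
  induction n with
  | zero => intro G _ _ hn; exact absurd hn (Nat.not_le.2 Nat.card_pos)
  | succ n ih =>
    intro G _ _ hn a ha k
    set S : Set G := {a} ∪ Set.range (fun g : G => (fun b => b * a * b⁻¹)^[k] (g * a * g⁻¹)) with hS
    by_contra hH
    set A : Subgroup G := zpowers a with hA
    have haH : A ≤ closure S := zpowers_le.2 (subset_closure (Or.inl rfl))
    have hAt : A ≠ ⊤ := fun h => hH (top_le_iff.1 (h ▸ haH))
    have hgen : Gen A ⊤ := ⟨le_top, fun L hL _ hnor => by
      have : L.Normal := Subgroup.normalizer_eq_top_iff.1 (top_le_iff.1 hnor)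
      exact top_le_iff.1 (ha ▸ normalClosure_le_normal (Set.singleton_subset_iff.2 (hL (mem_zpowers a))))⟩
    by_cases hY : fsup A = ⊤
    · apply hH
      refine top_le_iff.1 (hY ▸ sSup_le fun K hK => ?_)
      have haK : a ∈ K := hK.1.1 (mem_zpowers a)
      have hlt : Nat.card K < Nat.card G := lt_of_le_of_ne (card_le_card_group K)
        fun h => hK.2 (eq_top_of_card_eq K h)
      have hcl : Subgroup.normalClosure ({(⟨a, haK⟩ : K)} : Set K) = ⊤ := by
        have h1 := (gen_iff hK.1.1).1 hK.1
        rw [eq_top_iff, ← h1]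
        refine normalClosure_le_normal fun x hx => ?_
        obtain ⟨i, hi⟩ := mem_zpowers_iff.1 (mem_subgroupOf.1 hx)
        have : x = (⟨a, haK⟩ : K) ^ i := Subtype.ext (by simpa using hi.symm)
        rw [SetLike.mem_coe, this]
        exact Subgroup.zpow_mem _ (subset_normalClosure (s := ({(⟨a, haK⟩ : K)} : Set K)) rfl) i
      have h2 := ih K (by omega) ⟨a, haK⟩ hcl k
      have h3 : (⊤ : Subgroup K).map K.subtype ≤ closure S := by
        rw [← h2, MonoidHom.map_closure]
        refine closure_mono ?_
        rintro _ ⟨x, (rfl | ⟨g, rfl⟩), rfl⟩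
        · exact Or.inl rfl
        · refine Or.inr ⟨g, ?_⟩
          have hsemi : Function.Semiconj K.subtype
              (fun b : K => b * ⟨a, haK⟩ * b⁻¹) (fun b : G => b * a * b⁻¹) := fun b => rfl
          exact (hsemi.iterate_right k (g * ⟨a, haK⟩ * g⁻¹)).symm
      rwa [← MonoidHom.range_eq_map, range_subtype] at h3
    · obtain ⟨M, ⟨hM, hAM⟩, huniq⟩ := main_aux (Nat.card G + 1) A (by omega) hgen hAt hY
      obtain ⟨M', hM', hHM'⟩ := exists_coatom_ge hH
      obtain rfl : M' = M := huniq M' ⟨hM', haH.trans hHM'⟩
      have hstep : ∀ b : G, b * a * b⁻¹ ∈ M' → b ∈ M' := by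
        intro b hb
        have hle : A ≤ MulAut.conj b⁻¹ • M' := by
          rw [hA, zpowers_le, mem_pointwise_smul_iff_inv_smul_mem, ← map_inv, inv_inv,
            MulAut.smul_def, MulAut.conj_apply]
          exact hb
        have heq : MulAut.conj b⁻¹ • M' = M' := huniq _
          ⟨(OrderIso.isCoatom_iff (MulAut.conj b⁻¹).mapSubgroup M').2 hM', hle⟩
        have hbN : b⁻¹ ∈ normalizer (M' : Set G) := CfsgLib.Zipper.mem_normalizer_of_smul_eq heq
        have hNM : normalizer (M' : Set G) = M' := by
          rcases (le_normalizer (H := M')).eq_or_lt with h | h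
          · exact h.symm
          · exfalso
            have := hM.1
            have hnt : normalizer (M' : Set G) = ⊤ := hM'.2 _ h
            exact hM'.1 (hgen.2 M' hAM le_top hnt.ge)
        rw [hNM] at hbN
        simpa using M'.inv_mem hbN
      have hall : ∀ (j : ℕ) (b : G), (fun b => b * a * b⁻¹)^[j] b ∈ M' → b ∈ M' := by
        intro j
        induction j with
        | zero => intro b hb; exact hb
        | succ j ihj =>
          intro b hb
          rw [Function.iterate_succ_apply] at hb
          exact hstep b (ihj _ hb)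
      have hconj : ∀ g : G, g * a * g⁻¹ ∈ M' := fun g =>
        hall k _ (hHM' (subset_closure (Or.inr ⟨g, rfl⟩)))
      refine hM'.1 (top_le_iff.1 (ha ▸ ?_))
      rw [Subgroup.normalClosure, closure_le]
      intro x hx
      obtain ⟨y, hy, hxy⟩ := Group.mem_conjugatesOfSet_iff.1 hx
      rw [Set.mem_singleton_iff] at hy
      obtain ⟨c, hc⟩ := isConj_iff.1 hxy
      rw [hy] at hc
      rw [← hc]
      exact hconj c

end CfsgLib.IterCommutator
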