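import Cfsg.Agent.Lib.SchurCover.Universal
import Mathlib.GroupTheory.Transfer

/-!
Corestriction and transfer between the Schur multiplier of a finite group and that of a subgroup.
-/

set_option autoImplicit false

namespace CfsgLib.MultTransfer

open Subgroup CfsgLib.SchurCover
open scoped commutatorElement

universe u v w

/-- Two lifts into a central extension agree on the derived subgroup. -/
theorem eq_on_commutator {E Δ Q : Type*} [Group E] [Group Δ] [Group Q] (τ : Δ →* Q)
    (hc : τ.ker ≤ center Δ) (η η' : E →* Δ) (h : τ.comp η = τ.comp η') {x : E}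
    (hx : x ∈ commutator E) : η x = η' x := by
  have hle : commutator E ≤ η.eqLocus η' := by
    rw [_root_.commutator_def, commutator_le]
    intro a _ b _
    have hz : ∀ a : E, (η' a)⁻¹ * η a ∈ center Δ := fun a => hc (by
      rw [MonoidHom.mem_ker, map_mul, map_inv, ← MonoidHom.comp_apply, ← MonoidHom.comp_apply, h,
        inv_mul_cancel])
    show η ⁅a, b⁆ = η' ⁅a, b⁆
    rw [map_commutatorElement, map_commutatorElement]
    exact commutator_congr_central (hz a) (hz b)
  exact hle hx

section

variable {G : Type v} [Group G] (U : Subgroup G)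

/-- The preimage of `U` in the standard free group. -/
noncomputable abbrev Vsub : Subgroup (FreeGroup G) := U.comap (stdPres G)

/-- The presentation of `U` obtained from that of `G`. -/
noncomputable def vHom : Vsub U →* U :=
  ((stdPres G).comp (Vsub U).subtype).codRestrict U fun v => v.2

theorem vHom_surjective : Function.Surjective (vHom U) := fun u => by
  obtain ⟨x, hx⟩ := stdPres_surjective (Q := G) (u : G)
  exact ⟨⟨x, by rw [mem_comap, hx]; exact u.2⟩, Subtype.ext hx⟩

/-- The free central extension of `U`. -/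
abbrev VBar := Vsub U ⧸ ⁅(vHom U).ker, (⊤ : Subgroup (Vsub U))⁆

/-- The projection to `U`. -/
noncomputable def vBarHom : VBar U →* U :=
  QuotientGroup.lift _ (vHom U) (Subgroup.commutator_le_left (vHom U).ker ⊤)

theorem vBarHom_surjective : Function.Surjective (vBarHom U) := fun u => by
  obtain ⟨x, hx⟩ := vHom_surjective U u
  exact ⟨(x : VBar U), hx⟩

theorem ker_vBarHom_le_center : (vBarHom U).ker ≤ center (VBar U) := by
  intro x hx
  obtain ⟨r, rfl⟩ := QuotientGroup.mk'_surjective _ x
  rw [mem_center_iff]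
  intro g
  obtain ⟨g, rfl⟩ := QuotientGroup.mk'_surjective _ g
  have hr : r ∈ (vHom U).ker := hx
  have h' : ⁅QuotientGroup.mk' ⁅(vHom U).ker, (⊤ : Subgroup (Vsub U))⁆ r,
      QuotientGroup.mk' ⁅(vHom U).ker, (⊤ : Subgroup (Vsub U))⁆ g⁆ = (1 : VBar U) := by
    rw [← map_commutatorElement]
    exact (QuotientGroup.eq_one_iff _).2 (commutator_mem_commutator hr (mem_top g))
  exact (commutatorElement_eq_one_iff_mul_comm.1 h').symm

/-- The multiplier of `U` seen in the preimage. -/
noncomputable def vMult : Subgroup (VBar U) := (vBarHom U).ker ⊓ commutator (VBar U)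

/-- The corestriction `F̂ / [R, F̂] → F / [R, F]`. -/
noncomputable def toBar : VBar U →* Bar (stdPres G) :=
  QuotientGroup.lift _ ((QuotientGroup.mk' _).comp (Vsub U).subtype) (by
    refine commutator_le.2 fun r hr g _ => ?_
    rw [MonoidHom.mem_ker, MonoidHom.comp_apply, map_commutatorElement (Vsub U).subtype]
    refine (QuotientGroup.eq_one_iff _).2 (commutator_mem_commutator ?_ (mem_top _))
    exact congrArg Subtype.val hr)

theorem barHom_toBar (x : VBar U) : barHom (stdPres G) (toBar U x) = (vBarHom U x : G) := by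
  obtain ⟨y, rfl⟩ := QuotientGroup.mk'_surjective _ x
  rfl

theorem map_vMult_le : (vMult U).map (toBar U) ≤ mult (stdPres G) := by
  rintro _ ⟨x, ⟨hx1, hx2⟩, rfl⟩
  refine ⟨?_, ?_⟩
  · show barHom (stdPres G) (toBar U x) = 1
    rw [barHom_toBar, MonoidHom.mem_ker.1 hx1]; rfl
  · exact (Subgroup.map_commutator _ _ (toBar U) ▸ commutator_mono le_top le_top :
      (commutator (VBar U)).map (toBar U) ≤ commutator (Bar (stdPres G))) (mem_map_of_mem _ hx2)

/-- The multiplier of `U` computed in the preimage is the multiplier of `U`. -/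
theorem vMult_equiv [Finite G] {B : Type u} [CommGroup B] (hB : Cfsg.HasSchurMultiplier U B) :
    Nonempty (vMult U ≃* B) := by
  classical
  obtain ⟨eB⟩ := mult_equiv_of_hasSchurMultiplier hB (stdPres U) stdPres_surjective
  -- a lift out of the free group `F̂`
  let pU := stdPres (U : Type v)
  have hsec : ∀ a : IsFreeGroup.Generators (Vsub U),
      ∃ b : Bar pU, barHom pU b = vHom U (IsFreeGroup.of a) :=
    fun a => barHom_surjective pU stdPres_surjective _
  choose sec hsec using hsec
  let h₀ : Vsub U →* Bar pU := IsFreeGroup.lift sec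
  have hh₀ : (barHom pU).comp h₀ = vHom U :=
    IsFreeGroup.ext_hom fun a => by simp [h₀, hsec]
  let h : VBar U →* Bar pU := QuotientGroup.lift _ h₀ (by
    refine commutator_le.2 fun r hr g _ => ?_
    rw [MonoidHom.mem_ker, map_commutatorElement, commutatorElement_eq_one_iff_mul_comm]
    have : h₀ r ∈ (barHom pU).ker := by
      rw [MonoidHom.mem_ker, ← MonoidHom.comp_apply, hh₀]; exact hr
    exact (mem_center_iff.1 (ker_barHom_le_center pU this) (h₀ g)).symm)
  have hh : (barHom pU).comp h = vBarHom U := by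
    refine MonoidHom.ext fun x => ?_
    obtain ⟨y, rfl⟩ := QuotientGroup.mk'_surjective _ x
    exact DFunLike.congr_fun hh₀ y
  obtain ⟨g, hg⟩ := exists_lift pU (vBarHom U) (vBarHom_surjective U) (ker_vBarHom_le_center U)
  have hgh : ∀ x ∈ commutator (VBar U), g (h x) = x := fun x hx =>
    eq_on_commutator (vBarHom U) (ker_vBarHom_le_center U) (g.comp h) (MonoidHom.id _)
      (by rw [← MonoidHom.comp_assoc, hg, hh, MonoidHom.comp_id]) hx
  have hhg : ∀ x ∈ commutator (Bar pU), h (g x) = x := fun x hx =>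
    eq_on_commutator (barHom pU) (ker_barHom_le_center pU) (h.comp g) (MonoidHom.id _)
      (by rw [← MonoidHom.comp_assoc, hh, hg, MonoidHom.comp_id]) hx
  have hgm : ∀ x : mult pU, g x ∈ vMult U := fun x => by
    show g x ∈ (vBarHom U).ker ⊓ commutator (VBar U)
    rw [← mult_map_eq pU stdPres_surjective (vBarHom U) (ker_vBarHom_le_center U) g hg]
    exact mem_map_of_mem g x.2
  let f : mult pU →* vMult U := (g.comp (mult pU).subtype).codRestrict (vMult U) hgm
  have hf : Function.Bijective f := by
    refine ⟨fun a b hab => Subtype.ext ?_, fun y => ?_⟩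
    · rw [← hhg a a.2.2, ← hhg b b.2.2]
      exact congrArg h (congrArg Subtype.val hab)
    · have hy : (y : VBar U) ∈ (mult pU).map g := by
        rw [mult_map_eq pU stdPres_surjective (vBarHom U) (ker_vBarHom_le_center U) g hg]
        exact y.2
      obtain ⟨x, hx, hxy⟩ := hy
      exact ⟨⟨x, hx⟩, Subtype.ext hxy⟩
  exact ⟨(MulEquiv.ofBijective f hf).symm.trans eB⟩

/-- Restriction followed by corestriction is the power to the index. -/
theorem exists_transfer [Finite G] :
    ∃ t : mult (stdPres G) →* vMult U, ∀ x : mult (stdPres G),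
      toBar U (t x : VBar U) = (x : Bar (stdPres G)) ^ U.index := by
  classical
  set p := stdPres G with hp
  set V := Vsub U with hV
  have hidx : V.index = U.index := index_comap_of_surjective U stdPres_surjective
  have : V.FiniteIndex := ⟨by rw [hidx]; exact FiniteIndex.index_ne_zero⟩
  let _ := V.fintypeQuotientOfFiniteIndex
  let _ : CommGroup (vBarHom U).ker :=
    { (inferInstance : Group (vBarHom U).ker) with
      mul_comm := fun a b => Subtype.ext ((mem_center_iff.1 (ker_vBarHom_le_center U b.2)) a) }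
  have hmem : ∀ (r : p.ker) (t : FreeGroup G), t⁻¹ * (r : FreeGroup G) * t ∈ V := fun r t => by
    show p _ ∈ U
    rw [map_mul, map_mul, r.2, mul_one, map_inv, inv_mul_cancel]; exact one_mem U
  -- conjugates of a relator
  let ν : FreeGroup G → p.ker →* (vBarHom U).ker := fun t =>
    { toFun := fun r => ⟨((⟨_, hmem r t⟩ : V) : VBar U), by
        show vHom U (⟨_, hmem r t⟩ : V) = 1
        apply Subtype.ext
        show p (t⁻¹ * (r : FreeGroup G) * t) = 1
        rw [map_mul, map_mul, r.2, mul_one, map_inv, inv_mul_cancel]⟩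
      map_one' := Subtype.ext (by
        show ((⟨_, hmem 1 t⟩ : V) : VBar U) = 1
        rw [show (⟨_, hmem 1 t⟩ : V) = 1 from Subtype.ext (by simp)]; rfl)
      map_mul' := fun r s => Subtype.ext (by
        show ((⟨_, hmem (r * s) t⟩ : V) : VBar U) = ((⟨_, hmem r t⟩ : V) : VBar U) * ((⟨_, hmem s t⟩ : V) : VBar U)
        rw [← QuotientGroup.mk_mul]
        exact congrArg _ (Subtype.ext (by simp [mul_assoc]))) }
  have hν : ∀ (t t' : FreeGroup G) (r : p.ker), (t : FreeGroup G ⧸ V) = t' → ν t r = ν t' r := by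
    intro t t' r h
    apply Subtype.ext
    set v : V := ⟨t⁻¹ * t', QuotientGroup.eq.1 h⟩
    show ((⟨_, hmem r t⟩ : V) : VBar U) = ((⟨_, hmem r t'⟩ : V) : VBar U)
    have h1 : (⟨_, hmem r t'⟩ : V) = v⁻¹ * (⟨_, hmem r t⟩ : V) * v := Subtype.ext (by
      show t'⁻¹ * (r : FreeGroup G) * t' =
        (t⁻¹ * t')⁻¹ * (t⁻¹ * (r : FreeGroup G) * t) * (t⁻¹ * t')
      group)
    rw [h1, QuotientGroup.mk_mul, QuotientGroup.mk_mul, QuotientGroup.mk_inv]
    have hz : ((⟨_, hmem r t⟩ : V) : VBar U) ∈ center (VBar U) :=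
      ker_vBarHom_le_center U (ν t r).2
    generalize ((⟨_, hmem r t⟩ : V) : VBar U) = z at hz ⊢
    rw [mul_assoc, ← mem_center_iff.1 hz, inv_mul_cancel_left]
  let N : p.ker →* (vBarHom U).ker :=
    ∏ c : FreeGroup G ⧸ V, ν c.out
  have hN : ∀ r, N r = ∏ c : FreeGroup G ⧸ V, ν c.out r := fun r => MonoidHom.finsetProd_apply _ _ _
  -- invariance under conjugation
  have hinv : ∀ (g : FreeGroup G) (r s : p.ker),
      (s : FreeGroup G) = g * (r : FreeGroup G) * g⁻¹ → N s = N r := by
    intro g r s hs
    rw [hN, hN]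
    refine Fintype.prod_equiv (MulAction.toPerm g⁻¹) _ _ fun c => ?_
    refine Eq.trans ?_ (hν (g⁻¹ * c.out) _ r ?_)
    · exact Subtype.ext (congrArg (fun v : V => (v : VBar U)) (Subtype.ext (by
        show _⁻¹ * (s : FreeGroup G) * _ = _
        rw [hs]; group)))
    · rw [QuotientGroup.out_eq', MulAction.toPerm_apply, ← smul_eq_mul, MulAction.Quotient.mk_smul_out]
  -- the corestriction of `N`
  have hcor : ∀ r : p.ker, toBar U (N r : VBar U) = ((r : FreeGroup G) : Bar p) ^ U.index := by
    intro r
    rw [hN, ← hidx, Subgroup.index, Nat.card_eq_fintype_card, ← Finset.card_univ]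
    have hc : ∀ c : FreeGroup G ⧸ V, toBar U (ν c.out r : VBar U) = ((r : FreeGroup G) : Bar p) := by
      intro c
      show ((c.out⁻¹ * (r : FreeGroup G) * c.out : FreeGroup G) : Bar p) = _
      have hr : ((r : FreeGroup G) : Bar p) ∈ center (Bar p) :=
        ker_barHom_le_center p (show barHom p _ = 1 from r.2)
      rw [QuotientGroup.mk_mul, QuotientGroup.mk_mul, QuotientGroup.mk_inv, mul_assoc,
        ← mem_center_iff.1 hr, inv_mul_cancel_left]
    let K := (barHom p).ker
    let _ : CommGroup K :=
      { (inferInstance : Group K) with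
        mul_comm := fun a b => Subtype.ext ((mem_center_iff.1 (ker_barHom_le_center p b.2)) a) }
    let co : (vBarHom U).ker →* K := ((toBar U).comp (vBarHom U).ker.subtype).codRestrict K fun x => by
      show barHom p (toBar U x) = 1
      rw [barHom_toBar, MonoidHom.mem_ker.1 x.2]; rfl
    have h1 : co (∏ c : FreeGroup G ⧸ V, ν c.out r) =
        ∏ _c : FreeGroup G ⧸ V, (⟨_, (show barHom p ((r : FreeGroup G) : Bar p) = 1 from r.2)⟩ : K) := by
      rw [map_prod]
      exact Finset.prod_congr rfl fun c _ => Subtype.ext (hc c)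
    rw [Finset.prod_const] at h1
    exact congrArg Subtype.val h1
  -- `N` factors through `R / [R, F]`
  let π : p.ker →* (barHom p).ker :=
    ((QuotientGroup.mk' _).comp p.ker.subtype).codRestrict (barHom p).ker fun r => r.2
  have hπ : Function.Surjective π := fun x => by
    obtain ⟨r, hr⟩ := QuotientGroup.mk'_surjective _ (x : Bar p)
    exact ⟨⟨r, show barHom p (r : Bar p) = 1 by rw [← QuotientGroup.mk'_apply, hr]; exact x.2⟩,
      Subtype.ext hr⟩
  have hker : π.ker ≤ N.ker := by
    have hle : ⁅p.ker, (⊤ : Subgroup (FreeGroup G))⁆ ≤ N.ker.map p.ker.subtype := by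
      refine commutator_le.2 fun r hr g _ => ?_
      have hs : g * r⁻¹ * g⁻¹ ∈ p.ker := (inferInstance : p.ker.Normal).conj_mem _ (inv_mem hr) g
      refine ⟨⟨r, hr⟩ * ⟨_, hs⟩, ?_, ?_⟩
      · rw [SetLike.mem_coe, MonoidHom.mem_ker, map_mul, hinv g (⟨r, hr⟩⁻¹) ⟨_, hs⟩ rfl, map_inv,
          mul_inv_cancel]
      · simp [commutatorElement_def, mul_assoc]
    intro r hr
    obtain ⟨s, hs, hsr⟩ := hle ((QuotientGroup.eq_one_iff _).1 (congrArg Subtype.val hr))
    rwa [← Subtype.ext hsr]
  let T := π.liftOfSurjective hπ ⟨N, hker⟩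
  have hT : ∀ r, T (π r) = N r := fun r =>
    MonoidHom.liftOfRightInverse_comp_apply _ _ _ ⟨N, hker⟩ r
  -- the image of the multiplier is in the derived subgroup
  have hcomm : ∀ x : (barHom p).ker, (x : Bar p) ∈ commutator (Bar p) →
      (T x : VBar U) ∈ commutator (VBar U) := by
    intro x hx
    rw [← CfsgLib.SchurCover.map_commutator_eq _ (QuotientGroup.mk'_surjective _)] at hx
    obtain ⟨r, hr, hrx⟩ := hx
    have hrk : r ∈ p.ker := by
      show barHom p (r : Bar p) = 1
      rw [← QuotientGroup.mk'_apply, hrx]; exact x.2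
    have hx' : x = π ⟨r, hrk⟩ := Subtype.ext hrx.symm
    rw [hx', hT, hN]
    let φ : V →* Abelianization (VBar U) := Abelianization.of.comp (QuotientGroup.mk' _)
    have h1 : MonoidHom.transfer φ r = 1 := Abelianization.commutator_subset_ker _ hr
    rw [MonoidHom.transfer_def φ (default : V.LeftTransversal)] at h1
    let ab : (vBarHom U).ker →* Abelianization (VBar U) :=
      Abelianization.of.comp (vBarHom U).ker.subtype
    have h2 : ab (∏ c : FreeGroup G ⧸ V, ν c.out ⟨r, hrk⟩) = 1 := by
      rw [map_prod, ← h1]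
      unfold Subgroup.leftTransversals.diff
      refine Finset.prod_congr (Finset.ext fun _ => by simp) fun c _ => ?_
      set α := (default : V.LeftTransversal).2.leftQuotientEquiv with hα
      have hc : (((α c : FreeGroup G)) : FreeGroup G ⧸ V) = c := α.symm_apply_apply c
      rw [hν c.out (α c : FreeGroup G) _ (by rw [hc, QuotientGroup.out_eq'])]
      have hfix : r⁻¹ • c = c := by
        obtain ⟨a, rfl⟩ := QuotientGroup.mk_surjective c
        show ((r⁻¹ * a : FreeGroup G) : FreeGroup G ⧸ V) = a
        rw [QuotientGroup.eq, mul_inv_rev, inv_inv]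
        exact hmem ⟨r, hrk⟩ a
      show φ ⟨(α c : FreeGroup G)⁻¹ * (r : FreeGroup G) * α c, _⟩ = φ ⟨_, _⟩
      congr 1
      apply Subtype.ext
      show (α c : FreeGroup G)⁻¹ * r * α c = (α c : FreeGroup G)⁻¹ * _
      rw [Subgroup.smul_apply_eq_smul_apply_inv_smul, hfix, smul_eq_mul, mul_assoc]
    rw [← Abelianization.ker_of, MonoidHom.mem_ker]
    exact h2
  refine ⟨((vBarHom U).ker.subtype.comp (T.comp (inclusion (inf_le_left : mult p ≤ (barHom p).ker)))).codRestrict
    (vMult U) fun x => ⟨(T _).2, hcomm _ x.2.2⟩, fun x => ?_⟩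
  obtain ⟨r, hr⟩ := hπ (inclusion (inf_le_left : mult p ≤ (barHom p).ker) x)
  show toBar U (T (inclusion (inf_le_left : mult p ≤ (barHom p).ker) x) : VBar U) = _
  rw [← hr, hT, hcor]
  exact congrArg (fun z : (barHom p).ker => (z : Bar p) ^ U.index) hr

/-- Restriction and corestriction for arbitrary names of the two multipliers. -/
theorem exists_res_cores [Finite G] {A B : Type*} [CommGroup A] [CommGroup B]
    (hA : Cfsg.HasSchurMultiplier G A) (hB : Cfsg.HasSchurMultiplier U B) :
    ∃ (res : A →* B) (cores : B →* A), ∀ a, cores (res a) = a ^ U.index := by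
  obtain ⟨eA⟩ := mult_equiv_of_hasSchurMultiplier hA (stdPres G) stdPres_surjective
  obtain ⟨eB⟩ := vMult_equiv U hB
  obtain ⟨t, ht⟩ := exists_transfer U
  let c : vMult U →* mult (stdPres G) :=
    ((toBar U).comp (vMult U).subtype).codRestrict _ fun x => map_vMult_le U (mem_map_of_mem _ x.2)
  refine ⟨eB.toMonoidHom.comp (t.comp eA.symm.toMonoidHom),
    eA.toMonoidHom.comp (c.comp eB.symm.toMonoidHom), fun a => ?_⟩
  show eA (c (eB.symm (eB (t (eA.symm a))))) = _
  rw [eB.symm_apply_apply]
  have h : c (t (eA.symm a)) = (eA.symm a) ^ U.index := Subtype.ext (ht _)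
  rw [h, map_pow, eA.apply_symm_apply]

end

end CfsgLib.MultTransfer
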