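import Cfsg.Agent.Lib.PGroup.MaximalClass
import Cfsg.Agent.Lib.PGroup.NormalSquare
import Cfsg.Agent.Lib.OddOrder41.NormalElementary
import Cfsg.Agent.Lib.TwoGroups.OneInvolution
import Cfsg.Agent.Lib.Solvable.FrobeniusCenter

/-!
`p`-groups in which every non-cyclic subgroup contains its centralizer.
-/

set_option autoImplicit false

namespace CfsgLib.SelfCentralizing

open Subgroup

universe u

variable {G : Type u} [Group G] [Finite G] {p : ℕ} [hp : Fact p.Prime]

/-- The hypothesis. -/
def SC (G : Type u) [Group G] : Prop :=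
  ∀ H : Subgroup G, ¬ IsCyclic ↥H → centralizer (H : Set G) ≤ H

omit hp in
theorem not_isCyclic_of_card_sq {A : Subgroup G} {p : ℕ} (hp : p.Prime)
    (hA : ∀ a ∈ A, a ^ p = 1) (hc : p < Nat.card A) : ¬ IsCyclic ↥A := by
  intro h
  obtain ⟨g, hg⟩ := h.exists_generator
  have h1 : orderOf g = Nat.card A := orderOf_eq_card_of_forall_mem_zpowers hg
  have h2 : orderOf g ∣ p := orderOf_dvd_of_pow_eq_one (Subtype.ext (by simpa using hA g g.2))
  have := Nat.le_of_dvd hp.pos h2
  omega

/-- Two commuting elements of order `p` generating different subgroups give a self-centralizing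
subgroup of order `p ^ 2`. -/
theorem exists_sq_of_two (hG : IsPGroup p G) (hna : ¬ IsMulCommutative G) (hSC : SC G) {x : G}
    (hx : x ^ p = 1) (hxc : x ∉ center G) :
    ∃ A : Subgroup G, Nat.card A = p ^ 2 ∧ centralizer (A : Set G) = A := by
  have : Nontrivial G := by
    rcases subsingleton_or_nontrivial G with hs | hs
    · exact absurd ⟨⟨fun a b => Subsingleton.elim _ _⟩⟩ hna
    · exact hs
  have := hG.center_nontrivial
  obtain ⟨k, hk⟩ := (hG.to_subgroup (center G)).exists_card_eq
  have hk0 : k ≠ 0 := fun h => by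
    rw [h, pow_zero] at hk
    exact absurd hk (Finite.one_lt_card (α := center G)).ne'
  obtain ⟨z, hz⟩ := exists_prime_orderOf_dvd_card' (G := center G) p (hk ▸ dvd_pow_self p hk0)
  have hzo : orderOf (z : G) = p := by rwa [orderOf_coe]
  have hzp : (z : G) ^ p = 1 := by rw [← hzo, pow_orderOf_eq_one]
  have hcomm : Commute (z : G) x := (mem_center_iff.1 z.2 x).symm
  let A : Subgroup G := zpowers (z : G) ⊔ zpowers x
  have hab : IsMulCommutative A := by
    refine ⟨⟨fun a b => ?_⟩⟩
    have hle : A ≤ centralizer (A : Set G) := by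
      refine sup_le (zpowers_le.2 ?_) (zpowers_le.2 ?_) <;> rw [mem_centralizer_iff] <;> intro y hy
      · exact mem_center_iff.1 z.2 y
      · have h1 : A ≤ centralizer ({x} : Set G) := sup_le
          (zpowers_le.2 (mem_centralizer_singleton_iff.2 hcomm.eq))
          (zpowers_le.2 (mem_centralizer_singleton_iff.2 rfl))
        exact mem_centralizer_singleton_iff.1 (h1 hy)
    exact Subtype.ext (mem_centralizer_iff.1 (hle b.2) a a.2)
  have hxo : orderOf x = p := orderOf_eq_prime hx fun h => hxc (h ▸ one_mem _)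
  have hdisj : zpowers (z : G) ⊓ zpowers x = ⊥ := by
    rcases (Nat.dvd_prime hp.out).1 (show Nat.card (zpowers (z : G) ⊓ zpowers x : Subgroup G) ∣ p by
      rw [← hxo, ← Nat.card_zpowers]; exact card_dvd_of_le inf_le_right) with h | h
    · exact eq_bot_of_card_eq _ h
    · exfalso
      have e : zpowers (z : G) ⊓ zpowers x = zpowers x :=
        eq_of_le_of_card_ge inf_le_right (by rw [h, Nat.card_zpowers, hxo])
      have hx' : x ∈ zpowers (z : G) := inf_le_left (a := zpowers (z : G)) (e.symm ▸ mem_zpowers x)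
      exact hxc (zpowers_le.2 z.2 hx')
  have hcard : Nat.card A = p ^ 2 := by
    have : (zpowers (z : G)).Normal := ⟨fun y hy g => by
      rwa [mem_center_iff.1 (zpowers_le.2 z.2 hy) g, mul_inv_cancel_right]⟩
    have h1 : (zpowers (z : G)).relIndex A = p := by
      show (zpowers (z : G)).relIndex (zpowers (z : G) ⊔ zpowers x) = p
      rw [Subgroup.relIndex_sup_left, ← inf_relIndex_right, hdisj, relIndex_bot_left,
        Nat.card_zpowers, hxo]
    have h2 := Subgroup.card_mul_index ((zpowers (z : G)).subgroupOf A)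
    rw [Nat.card_congr (subgroupOfEquivOfLe le_sup_left).toEquiv, Nat.card_zpowers, hzo] at h2
    rw [← h2, sq]
    exact congrArg _ h1
  have hexp : ∀ a ∈ A, a ^ p = 1 := by
    let _ : CommGroup A :=
      { (inferInstance : Group A) with mul_comm := fun a b => hab.is_comm.comm a b }
    intro a ha
    have hle : A ≤ (powMonoidHom p : A →* A).ker.map A.subtype := by
      refine sup_le (zpowers_le.2 ?_) (zpowers_le.2 ?_)
      · exact ⟨⟨z, mem_sup_left (mem_zpowers _)⟩, Subtype.ext (by simpa using hzp), rfl⟩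
      · exact ⟨⟨x, mem_sup_right (mem_zpowers _)⟩, Subtype.ext (by simpa using hx), rfl⟩
    obtain ⟨b, hb, rfl⟩ := hle ha
    exact congrArg Subtype.val (MonoidHom.mem_ker.1 hb)
  have hnc : ¬ IsCyclic ↥A := not_isCyclic_of_card_sq hp.out hexp (by
    rw [hcard, sq]; exact lt_mul_self hp.out.one_lt)
  exact ⟨A, hcard, le_antisymm (hSC A hnc) fun a ha => mem_centralizer_iff.2 fun b hb =>
    congrArg Subtype.val (hab.is_comm.comm ⟨b, hb⟩ ⟨a, ha⟩)⟩

/-- For odd `p` the order is `p ^ 3`. -/
theorem card_eq_cube (hp2 : p ≠ 2) (hG : IsPGroup p G) (hna : ¬ IsMulCommutative G) (hSC : SC G) :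
    Nat.card G = p ^ 3 := by
  classical
  obtain ⟨A, hAn, hAab, hAnc⟩ :
      ∃ A : Subgroup G, A.Normal ∧ IsMulCommutative A ∧ ¬ IsCyclic ↥A := by
    by_contra h
    push Not at h
    by_cases hex : ∃ B : Subgroup G, IsMulCommutative B ∧ ¬ IsCyclic ↥B
    · exact hp2 (Cfsg.Agent.S0519.result p hG h hex).1
    · push Not at hex
      -- all abelian subgroups cyclic: a unique subgroup of order `p`
      have hu : ∀ x : G, x ^ p = 1 → x ∈ center G := by
        intro x hx
        by_contra hxc
        obtain ⟨B, hB, hBC⟩ := exists_sq_of_two hG hna hSC hx hxc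
        have hBab : IsMulCommutative B := IsPGroup.isMulCommutative_of_card_eq_prime_sq hB
        have := hex B hBab
        obtain ⟨g, hg⟩ := this.exists_generator
        have hx' : orderOf x = p := orderOf_eq_prime hx fun h => hxc (h ▸ one_mem _)
        have hZ : (center G : Subgroup G) ⊔ zpowers x ≤ centralizer ({x} : Set G) := sup_le
          (center_le_centralizer _) (zpowers_le.2 (mem_centralizer_singleton_iff.2 rfl))
        have hcyc := hex (center G ⊔ zpowers x) ⟨⟨fun a b => by
          have hle : center G ⊔ zpowers x ≤ centralizer ((center G ⊔ zpowers x : Subgroup G) : Set G) :=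
            sup_le (center_le_centralizer _) (zpowers_le.2 (mem_centralizer_iff.2 fun y hy =>
              mem_centralizer_singleton_iff.1 (hZ hy)))
          exact Subtype.ext (mem_centralizer_iff.1 (hle b.2) a a.2)⟩⟩
        have : Nontrivial G := by
          rcases subsingleton_or_nontrivial G with hs | hs
          · exact absurd ⟨⟨fun a b => Subsingleton.elim _ _⟩⟩ hna
          · exact hs
        have := hG.center_nontrivial
        obtain ⟨k, hk⟩ := (hG.to_subgroup (center G)).exists_card_eq
        have hk0 : k ≠ 0 := fun h => by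
          rw [h, pow_zero] at hk
          exact absurd hk (Finite.one_lt_card (α := center G)).ne'
        obtain ⟨z, hz⟩ := exists_prime_orderOf_dvd_card' (G := center G) p (hk ▸ dvd_pow_self p hk0)
        have e : (zpowers (z : G)).subgroupOf (center G ⊔ zpowers x) =
            (zpowers x).subgroupOf (center G ⊔ zpowers x) := by
          refine CfsgLib.FrobeniusCenter.eq_of_card_eq_of_isCyclic ?_
          rw [Nat.card_congr (subgroupOfEquivOfLe (zpowers_le.2 (mem_sup_left z.2))).toEquiv,
            Nat.card_congr (subgroupOfEquivOfLe le_sup_right).toEquiv, Nat.card_zpowers,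
            Nat.card_zpowers, orderOf_coe, hz, hx']
        have hx2 : (⟨x, mem_sup_right (mem_zpowers x)⟩ : (center G ⊔ zpowers x : Subgroup G)) ∈
            (zpowers x).subgroupOf (center G ⊔ zpowers x) := mem_zpowers x
        rw [← e] at hx2
        exact hxc (zpowers_le.2 z.2 hx2)
      obtain ⟨m, hm⟩ := IsPGroup.iff_card.1 hG
      have hcyc : IsCyclic G := CfsgLib.SubgroupCount.isCyclic_of_unique hp.out m hm
        (fun a b ha hb => by
          have hcenc : IsCyclic ↥(center G) := hex _ inferInstance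
          have ha' : a ∈ center G := hu a (by rw [← ha, pow_orderOf_eq_one])
          have hb' : b ∈ center G := hu b (by rw [← hb, pow_orderOf_eq_one])
          have e : (zpowers a).subgroupOf (center G) = (zpowers b).subgroupOf (center G) := by
            refine CfsgLib.FrobeniusCenter.eq_of_card_eq_of_isCyclic ?_
            rw [Nat.card_congr (subgroupOfEquivOfLe (zpowers_le.2 ha')).toEquiv,
              Nat.card_congr (subgroupOfEquivOfLe (zpowers_le.2 hb')).toEquiv, Nat.card_zpowers,
              Nat.card_zpowers, ha, hb]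
          have h2 : (⟨b, hb'⟩ : center G) ∈ (zpowers b).subgroupOf (center G) := mem_zpowers b
          rw [← e] at h2
          exact h2)
        (fun h => absurd h hp2)
      exact hna IsCyclic.isMulCommutative
  -- the elements of order dividing `p` in `A`
  let _ : CommGroup A :=
    { (inferInstance : Group A) with mul_comm := fun a b => hAab.is_comm.comm a b }
  let W : Subgroup G := (powMonoidHom p : A →* A).ker.map A.subtype
  have hWA : W ≤ A := map_subtype_le _
  have hWe : ∀ a ∈ W, a ^ p = 1 := by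
    rintro _ ⟨a, ha, rfl⟩
    exact congrArg Subtype.val (MonoidHom.mem_ker.1 ha)
  have hWn : W.Normal := ⟨fun x hx g => by
    obtain ⟨a, ha, rfl⟩ := hx
    refine ⟨⟨g * a * g⁻¹, hAn.conj_mem _ a.2 g⟩, ?_, rfl⟩
    have ha' : (a : G) ^ p = 1 := congrArg Subtype.val (MonoidHom.mem_ker.1 ha)
    refine Subtype.ext ?_
    show (g * (a : G) * g⁻¹) ^ p = 1
    rw [conj_pow, ha', mul_one, mul_inv_cancel]⟩
  have hWab : IsMulCommutative W := ⟨⟨fun a b => Subtype.ext (show (a : G) * b = b * a from
    congrArg Subtype.val (hAab.is_comm.comm ⟨a, hWA a.2⟩ ⟨b, hWA b.2⟩))⟩⟩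
  have hWbig : p < Nat.card W := by
    by_contra h
    push Not at h
    refine hAnc (CfsgLib.PGroup39.isCyclic_of_omega_le (hG.to_subgroup A) ?_)
    rwa [card_map_of_injective A.subtype_injective] at h
  obtain ⟨k, hk⟩ := (hG.to_subgroup W).exists_card_eq
  have hk2 : 2 ≤ k := by
    by_contra h
    have := Nat.pow_le_pow_right hp.out.pos (show k ≤ 1 by omega)
    rw [pow_one] at this
    omega
  obtain ⟨U, hU, -, hUW⟩ : ∃ U : Subgroup G, Nat.card U = p ^ 2 ∧ True ∧ U ≤ W := by
    obtain ⟨U, hU⟩ := Sylow.exists_subgroup_card_pow_prime (G := W) p (n := 2)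
      (hk ▸ pow_dvd_pow p hk2)
    exact ⟨U.map W.subtype, by rw [card_map_of_injective W.subtype_injective, hU], trivial,
      map_subtype_le _⟩
  have hUnc : ¬ IsCyclic ↥U := not_isCyclic_of_card_sq hp.out (fun a ha => hWe a (hUW ha)) (by
    rw [hU, sq]; exact lt_mul_self hp.out.one_lt)
  have hWU : W ≤ U := fun w hw => hSC U hUnc (mem_centralizer_iff.2 fun u hu =>
    congrArg Subtype.val (hWab.is_comm.comm ⟨u, hUW hu⟩ ⟨w, hw⟩))
  have hW2 : Nat.card W = p ^ 2 := by rw [le_antisymm hWU hUW, hU]
  have hWnc : ¬ IsCyclic ↥W := not_isCyclic_of_card_sq hp.out hWe hWbig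
  have hC : centralizer (W : Set G) = W := le_antisymm (hSC W hWnc) fun w hw =>
    mem_centralizer_iff.2 fun u hu => congrArg Subtype.val (hWab.is_comm.comm ⟨u, hu⟩ ⟨w, hw⟩)
  have hi := CfsgLib.OddOrder41.index_centralizer_dvd_of_card_sq hG W ⟨hWab, hWe⟩ hW2
  rw [hC] at hi
  have hd : Nat.card G ∣ p ^ 3 := by
    rw [← card_mul_index W, hW2, pow_succ]
    exact mul_dvd_mul_left _ hi
  obtain ⟨m, hm3, hm⟩ := (Nat.dvd_prime_pow hp.out).1 hd
  rw [hm]
  congr 1
  by_contra hne
  refine hna ?_
  rcases (show m ≤ 2 by omega).lt_or_eq with h | h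
  · have hcard : Nat.card (G ⧸ center G) ∣ p ^ 1 :=
      (card_quotient_dvd_card _).trans (hm ▸ pow_dvd_pow p (by omega))
    obtain ⟨j, hj, hj'⟩ := (Nat.dvd_prime_pow hp.out).1 hcard
    exact CfsgLib.MaxClass.abelian_of_center_quotient_le hj hj'
  · exact IsPGroup.isMulCommutative_of_card_eq_prime_sq (hm.trans (by rw [h]))

omit hp in
/-- A cyclic subgroup of index 2 containing a centre of order 2 forces the property. -/
theorem sc_of_cyclic_index_two (hG : IsPGroup 2 G) (A : Subgroup G) (hA : IsCyclic ↥A) (hAi : A.index = 2)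
    (hZA : center G ≤ A) (hZ : Nat.card (center G) = 2) : SC G := by
  intro H hH x hx
  obtain ⟨h, hh, hhA⟩ : ∃ h ∈ H, h ∉ A := by
    by_contra hcon
    push Not at hcon
    exact hH (isCyclic_of_injective (inclusion hcon) (inclusion_injective _))
  have hAn : A.Normal := normal_of_index_eq_two hAi
  have hAab : IsMulCommutative A := IsCyclic.isMulCommutative
  have hcentral : ∀ a ∈ A, a * h = h * a → a ∈ center G := by
    intro a ha hc
    rw [mem_center_iff]
    intro y
    have key : ∀ b ∈ A, b * a = a * b := fun b hb =>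
      congrArg Subtype.val (hAab.is_comm.comm ⟨b, hb⟩ ⟨a, ha⟩)
    by_cases hy : y ∈ A
    · exact key y hy
    · have hyh : y * h⁻¹ ∈ A := by
        rw [mul_mem_iff_of_index_two hAi, inv_mem_iff]; simp [hy, hhA]
      have h2 : Commute (y * h⁻¹ * h) a :=
        (show Commute (y * h⁻¹) a from key _ hyh).mul_left (show Commute h a from hc.symm)
      simpa using h2.eq
  have hxh : h * x = x * h := mem_centralizer_iff.1 hx h hh
  -- the centre lies in `H`
  have hZH : center G ≤ H := by
    have hne : H ⊓ A ≠ ⊥ := by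
      intro hbot
      refine hH ?_
      have hinj : Function.Injective ((QuotientGroup.mk' A).comp H.subtype) := by
        rw [injective_iff_map_eq_one]
        intro y hy
        have : (y : G) ∈ H ⊓ A := ⟨y.2, (QuotientGroup.eq_one_iff _).1 hy⟩
        rw [hbot, mem_bot] at this
        exact Subtype.ext this
      have : IsCyclic (G ⧸ A) := by
        have := Fact.mk Nat.prime_two
        exact isCyclic_of_prime_card (p := 2) (by rw [← index_eq_card, hAi])
      exact isCyclic_of_injective _ hinj
    obtain ⟨j, hj⟩ := (hG.to_subgroup (H ⊓ A)).exists_card_eq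
    have hj0 : j ≠ 0 := fun h0 => hne (eq_bot_of_card_eq _ (by rw [hj, h0, pow_zero]))
    have := Fact.mk Nat.prime_two
    obtain ⟨w, hw⟩ := exists_prime_orderOf_dvd_card' (G := (H ⊓ A : Subgroup G)) 2
      (hj ▸ dvd_pow_self 2 hj0)
    have e : (center G).subgroupOf A = (zpowers (w : G)).subgroupOf A := by
      refine CfsgLib.FrobeniusCenter.eq_of_card_eq_of_isCyclic ?_
      rw [Nat.card_congr (subgroupOfEquivOfLe hZA).toEquiv,
        Nat.card_congr (subgroupOfEquivOfLe (zpowers_le.2 w.2.2)).toEquiv, Nat.card_zpowers,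
        hZ, orderOf_coe, hw]
    intro z hz
    have h1 : (⟨z, hZA hz⟩ : A) ∈ (center G).subgroupOf A := hz
    rw [e] at h1
    exact zpowers_le.2 w.2.1 h1
  by_cases hxA : x ∈ A
  · exact hZH (hcentral x hxA hxh.symm)
  · have hxh' : x * h ∈ A := by rw [mul_mem_iff_of_index_two hAi]; simp [hxA, hhA]
    have h1 : x * h ∈ center G := hcentral _ hxh' (by rw [← mul_assoc h x h, hxh])
    have := H.mul_mem (hZH h1) (H.inv_mem hh)
    rwa [mul_inv_cancel_right] at this

omit hp in
/-- The 2-group case: maximal class. -/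
theorem class_of_two {n : ℕ} (hG : Nat.card G = 2 ^ n) (hna : ¬ IsMulCommutative G) (hSC : SC G) :
    Group.nilpotencyClass G = n - 1 := by
  have := Fact.mk Nat.prime_two
  have hGp : IsPGroup 2 G := IsPGroup.of_card hG
  by_cases hex : ∃ x : G, x ^ 2 = 1 ∧ x ∉ center G
  · obtain ⟨x, hx, hxc⟩ := hex
    obtain ⟨A, hA, hAC⟩ := exists_sq_of_two hGp hna hSC hx hxc
    exact CfsgLib.MaxClass.class_of_selfCentralizing n G hG A hA hAC
  push Not at hex
  -- central involutions: by the hypothesis there is only one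
  have huniq : ∀ a b : G, orderOf a = 2 → orderOf b = 2 → a = b := by
    intro a b ha hb
    by_contra hne
    have ha' := hex a (by rw [← ha, pow_orderOf_eq_one])
    have hb' := hex b (by rw [← hb, pow_orderOf_eq_one])
    have hnc : ¬ IsCyclic ↥(center G) := by
      intro hc
      have e : (zpowers a).subgroupOf (center G) = (zpowers b).subgroupOf (center G) := by
        refine CfsgLib.FrobeniusCenter.eq_of_card_eq_of_isCyclic ?_
        rw [Nat.card_congr (subgroupOfEquivOfLe (zpowers_le.2 ha')).toEquiv,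
          Nat.card_congr (subgroupOfEquivOfLe (zpowers_le.2 hb')).toEquiv, Nat.card_zpowers,
          Nat.card_zpowers, ha, hb]
      have h2 : (⟨b, hb'⟩ : center G) ∈ (zpowers b).subgroupOf (center G) := mem_zpowers b
      rw [← e] at h2
      obtain ⟨i, hi⟩ := mem_zpowers_iff.1 (mem_subgroupOf.1 h2)
      have hi' : a ^ i = b := hi
      rcases Int.even_or_odd i with ⟨j, rfl⟩ | ⟨j, rfl⟩
      · have : a ^ (2 : ℤ) = 1 := by rw [show (2 : ℤ) = ((2 : ℕ) : ℤ) from rfl, zpow_natCast, ← ha, pow_orderOf_eq_one]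
        rw [← two_mul, zpow_mul, this, one_zpow] at hi'
        rw [← hi', orderOf_one] at hb
        exact absurd hb (by norm_num)
      · have : a ^ (2 : ℤ) = 1 := by rw [show (2 : ℤ) = ((2 : ℕ) : ℤ) from rfl, zpow_natCast, ← ha, pow_orderOf_eq_one]
        rw [zpow_add, zpow_mul, this, one_zpow, one_mul, zpow_one] at hi'
        exact hne hi'
    have h1 := hSC (center G) hnc
    rw [centralizer_eq_top_iff_subset.2 (le_refl _)] at h1
    exact hna ⟨⟨fun a b => mem_center_iff.1 (h1 (mem_top b)) a⟩⟩
  rcases CfsgLib.TwoGroups.OneInvolution.isCyclic_or_quaternion hGp huniq with hc | ⟨k, hk, ⟨e⟩⟩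
  · exact absurd IsCyclic.isMulCommutative hna
  set m := 2 ^ k with hm
  have : NeZero m := ⟨pow_ne_zero _ two_ne_zero⟩
  let t : G := e.symm (QuaternionGroup.xa 0)
  have hto : orderOf t = 2 ^ 2 := by
    rw [e.symm.orderOf_eq, QuaternionGroup.orderOf_xa]; norm_num
  refine CfsgLib.MaxClass.class_of_selfCentralizing n G hG (zpowers t)
    (by rw [Nat.card_zpowers, hto]) (le_antisymm ?_ ?_)
  swap
  · exact fun y hy => mem_centralizer_iff.2 fun w hw => by
      obtain ⟨i, rfl⟩ := mem_zpowers_iff.1 hy
      obtain ⟨j, rfl⟩ := mem_zpowers_iff.1 hw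
      rw [← zpow_add, ← zpow_add, add_comm]
  intro y hy
  have hyt : t * y = y * t := mem_centralizer_iff.1 hy t (mem_zpowers t)
  have hyt' : QuaternionGroup.xa 0 * e y = e y * QuaternionGroup.xa 0 := by
    have := congrArg e hyt
    simpa [t] using this
  have key : ∀ i : ZMod (2 * m), i + i = 0 →
      e.symm (QuaternionGroup.a i) ∈ zpowers t := by
    intro i hi
    have hi' : i = 0 ∨ i = (m : ZMod (2 * m)) := by
      have hv : ((2 * i.val : ℕ) : ZMod (2 * m)) = 0 := by
        rw [show 2 * i.val = i.val + i.val from two_mul _, Nat.cast_add, ZMod.natCast_zmod_val, hi]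
      rw [ZMod.natCast_eq_zero_iff] at hv
      have hlt := i.val_lt
      obtain ⟨c, hc⟩ := Nat.dvd_of_mul_dvd_mul_left two_pos hv
      rcases (show c = 0 ∨ c = 1 by
        rcases c with _ | _ | c
        · exact Or.inl rfl
        · exact Or.inr rfl
        · exfalso; nlinarith [Nat.pos_of_ne_zero (NeZero.ne m)]) with rfl | rfl
      · left; rw [← ZMod.natCast_zmod_val i, hc]; simp
      · right; rw [← ZMod.natCast_zmod_val i, hc, mul_one]
    rcases hi' with rfl | rfl
    · rw [QuaternionGroup.a_zero, map_one]; exact one_mem _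
    · rw [← QuaternionGroup.xa_sq 0, map_pow]; exact pow_mem (mem_zpowers t) 2
  rcases hy' : e y with i | i
  · rw [hy', QuaternionGroup.xa_mul_a, QuaternionGroup.a_mul_xa] at hyt'
    have h1 := QuaternionGroup.xa.inj hyt'
    have hy2 : y = e.symm (QuaternionGroup.a i) := by rw [← hy', e.symm_apply_apply]
    exact hy2 ▸ key i (by linear_combination h1)
  · rw [hy', QuaternionGroup.xa_mul_xa, QuaternionGroup.xa_mul_xa] at hyt'
    have h1 := QuaternionGroup.a.inj hyt'
    have hy2 : y = e.symm (QuaternionGroup.a (0 - i) * QuaternionGroup.xa 0)⁻¹⁻¹ := by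
      rw [inv_inv, QuaternionGroup.a_mul_xa, zero_sub, zero_sub, neg_neg, ← hy', e.symm_apply_apply]
    rw [hy2, inv_inv, map_mul]
    exact mul_mem (key _ (by linear_combination (-1 : ZMod (2 * m)) * h1)) (mem_zpowers t)

end CfsgLib.SelfCentralizing
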