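import Cfsg.Agent.Lib.SylowNumber.Basic

set_option autoImplicit false

/-! A group all of whose Sylow numbers are prime powers is solvable, given the two-prime theorem. -/

namespace CfsgLib.Struct77

universe u

variable {G : Type u} [Group G] [Finite G]

/-- If the index of `N` is a power of `s`, then a Sylow `s`-subgroup covers `G/N`. -/
lemma exists_mul_eq {s : ℕ} [hs : Fact s.Prime] (N : Subgroup G) (a : ℕ) (hN : N.index = s ^ a)
    (S : Sylow s G) (g : G) : ∃ x ∈ (S : Subgroup G), x⁻¹ * g ∈ N := by
  let φ : (S : Subgroup G) ⧸ N.subgroupOf (S : Subgroup G) → G ⧸ N :=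
    Quotient.map' (fun x => (x : G)) (fun x y h => by
      rw [QuotientGroup.leftRel_apply] at h ⊢
      simpa [Subgroup.mem_subgroupOf] using h)
  have hinj : Function.Injective φ := by
    intro x y
    induction x using Quotient.inductionOn' with
    | h x =>
      induction y using Quotient.inductionOn' with
      | h y =>
        intro h
        apply Quotient.sound'
        rw [QuotientGroup.leftRel_apply]
        have h' := Quotient.exact' h
        rw [QuotientGroup.leftRel_apply] at h'
        simpa [Subgroup.mem_subgroupOf] using h'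
  have hcard : Nat.card (G ⧸ N) ≤ Nat.card ((S : Subgroup G) ⧸ N.subgroupOf (S : Subgroup G)) := by
    change N.index ≤ N.relIndex (S : Subgroup G)
    have hS := S.card_eq_multiplicity
    have hmul := (N.subgroupOf (S : Subgroup G)).card_mul_index
    obtain ⟨i, hi⟩ := (S.2.to_subgroup (N.subgroupOf (S : Subgroup G))).exists_card_eq
    have hdvd : s ^ i ∣ Nat.card N := by
      rw [← hi]
      have e : Nat.card (N.subgroupOf (S : Subgroup G)) = Nat.card (N ⊓ S : Subgroup G) := by
        rw [← Subgroup.subgroupOf_map_subtype,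
          Subgroup.card_map_of_injective (S : Subgroup G).subtype_injective]
      rw [e]
      exact Subgroup.card_dvd_of_le inf_le_left
    have h2 : s ^ (i + a) ∣ Nat.card G := by
      rw [pow_add, ← N.card_mul_index, hN]
      exact mul_dvd_mul_right hdvd _
    have h3 := (hs.out.pow_dvd_iff_le_factorization Nat.card_pos.ne').mp h2
    change _ * N.relIndex (S : Subgroup G) = _ at hmul
    rw [hi, hS] at hmul
    rw [hN]
    refine (Nat.mul_le_mul_left_iff (pow_pos hs.out.pos i)).mp ?_
    rw [hmul, ← pow_add]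
    exact Nat.pow_le_pow_right hs.out.pos h3
  have hbij : Function.Bijective φ :=
    hinj.bijective_of_nat_card_le hcard
  obtain ⟨z, hz⟩ := hbij.2 (g : G ⧸ N)
  induction z using Quotient.inductionOn' with
  | h x => exact ⟨x, x.2, QuotientGroup.eq.mp hz⟩

/-- Any Sylow `s`-subgroup has a conjugate inside a subgroup of index prime to `s`. -/
lemma exists_sylow_le {s : ℕ} [hs : Fact s.Prime] (N : Subgroup G) (h : ¬ s ∣ N.index) :
    ∃ S : Sylow s G, (S : Subgroup G) ≤ N := by
  obtain ⟨R⟩ := (inferInstance : Nonempty (Sylow s N))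
  obtain ⟨S, hS⟩ := (R.2.map N.subtype).exists_le_sylow
  have hcard : Nat.card (S : Subgroup G) = Nat.card ((R : Subgroup N).map N.subtype) := by
    rw [Subgroup.card_map_of_injective N.subtype_injective, R.card_eq_multiplicity,
      S.card_eq_multiplicity]
    congr 1
    rw [← N.card_mul_index, Nat.factorization_mul Nat.card_pos.ne'
      (Subgroup.FiniteIndex.index_ne_zero), Finsupp.add_apply,
      Nat.factorization_eq_zero_of_not_dvd h, add_zero]
  exact ⟨S, (Subgroup.eq_of_le_of_card_ge hS hcard.le).symm.trans_le (Subgroup.map_subtype_le _)⟩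

/-- If `n_q` is a power of `s` and some proper subgroup contains a Sylow `q`- and a Sylow
`s`-subgroup, then `G` is not simple. -/
lemma not_simple_of_pair [IsSimpleGroup G] {q s : ℕ} [Fact q.Prime] [Fact s.Prime]
    (hqG : q ∣ Nat.card G) (a : ℕ) (hn : Nat.card (Sylow q G) = s ^ a) (K : Subgroup G)
    (hK : K ≠ ⊤) (Q : Sylow q G) (hQ : (Q : Subgroup G) ≤ K) (S : Sylow s G)
    (hS : (S : Subgroup G) ≤ K) : False := by
  have hidx : (Subgroup.normalizer ((Q : Subgroup G) : Set G)).index = s ^ a := by
    rw [← hn]; exact (Sylow.card_eq_index_normalizer Q).symm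
  have hle : Subgroup.normalClosure ((Q : Subgroup G) : Set G) ≤ K := by
    rw [Subgroup.normalClosure, Subgroup.closure_le]
    intro z hz
    obtain ⟨b, hb, hbz⟩ := Group.mem_conjugatesOfSet_iff.mp hz
    obtain ⟨c, hc⟩ := isConj_iff.mp hbz
    obtain ⟨x, hx, hxc⟩ := exists_mul_eq _ a hidx S c
    have hm : x⁻¹ * c * b * (x⁻¹ * c)⁻¹ ∈ (Q : Subgroup G) :=
      (Subgroup.mem_normalizer_iff.mp hxc b).mp hb
    have hz' : z = x * (x⁻¹ * c * b * (x⁻¹ * c)⁻¹) * x⁻¹ := by rw [← hc]; group
    rw [hz']
    exact K.mul_mem (K.mul_mem (hS hx) (hQ hm)) (K.inv_mem (hS hx))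
  have hQne : (Q : Subgroup G) ≠ ⊥ := Q.ne_bot_of_dvd_card hqG
  rcases (Subgroup.normalClosure_normal (s := ((Q : Subgroup G) : Set G))).eq_bot_or_eq_top with h | h
  · exact hQne (eq_bot_iff.mpr (h ▸ Subgroup.subset_normalClosure))
  · exact hK (top_le_iff.mp (h ▸ hle))

theorem simple_case [IsSimpleGroup G]
    (hB : ∀ p q a b : ℕ, p.Prime → q.Prime → Nat.card G = p ^ a * q ^ b → Group.IsSolvable G)
    (h : ∀ (r : ℕ) [Fact r.Prime], Nat.card (Sylow r G) = 1 ∨ IsPrimePow (Nat.card (Sylow r G))) :
    Group.IsSolvable G := by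
  by_contra hns
  -- the prime `f r`
  have hex : ∀ r : ℕ, r.Prime → r ∣ Nat.card G → ∃ s a : ℕ, s.Prime ∧ s ≠ r ∧ s ∣ Nat.card G ∧
      (∀ (_ : Fact r.Prime), Nat.card (Sylow r G) = s ^ a ∧ 1 < s ^ a) := by
    intro r hr hrd
    have : Fact r.Prime := ⟨hr⟩
    rcases h r with h1 | h1
    · exfalso
      have : Subsingleton (Sylow r G) := (Nat.card_eq_one_iff_unique.mp h1).1
      let R : Sylow r G := default
      have := R.normal_of_subsingleton
      rcases this.eq_bot_or_eq_top with h2 | h2
      · exact R.ne_bot_of_dvd_card hrd h2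
      · have : Group.IsNilpotent G := by
          have hp : IsPGroup r G := by
            have := R.2
            rw [h2] at this
            exact this.of_equiv Subgroup.topEquiv
          exact hp.isNilpotent
        exact hns inferInstance
    · obtain ⟨s, a, hs, ha, hsa⟩ := h1
      refine ⟨s, a, hs.nat_prime, ?_, ?_, fun _ => ⟨hsa.symm, Nat.one_lt_pow ha.ne' hs.nat_prime.one_lt⟩⟩
      · rintro rfl
        have := not_dvd_card_sylow s G
        exact this (hsa ▸ dvd_pow_self s ha.ne')
      · have hd : Nat.card (Sylow r G) ∣ Nat.card G := by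
          rw [Sylow.card_eq_index_normalizer (default : Sylow r G)]
          exact Subgroup.index_dvd_card _
        exact (dvd_pow_self s ha.ne').trans (hsa ▸ hd)
  choose! f e hfp hfne hfd hfn using hex
  have hstep : ∀ q : ℕ, q.Prime → q ∣ Nat.card G → ∀ x : ℕ, x.Prime → x ∣ Nat.card G →
      f x = q ∨ f x = f q := by
    intro q hq hqd x hx hxd
    by_contra hc
    push Not at hc
    have : Fact q.Prime := ⟨hq⟩
    have : Fact x.Prime := ⟨hx⟩
    have : Fact (f q).Prime := ⟨hfp q hq hqd⟩
    let X : Sylow x G := default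
    set N := Subgroup.normalizer ((X : Subgroup G) : Set G) with hN
    have hidx : N.index = f x ^ e x := by
      rw [← (hfn x hx hxd ⟨hx⟩).1]; exact (Sylow.card_eq_index_normalizer X).symm
    have hnd : ∀ r : ℕ, r.Prime → f x ≠ r → ¬ r ∣ N.index := fun r hr hne hd => by
      rw [hidx] at hd
      exact hne ((Nat.prime_dvd_prime_iff_eq hr (hfp x hx hxd)).mp (hr.dvd_of_dvd_pow hd)).symm
    obtain ⟨Q, hQ⟩ := exists_sylow_le N (hnd q hq hc.1)
    obtain ⟨S, hS⟩ := exists_sylow_le N (hnd (f q) (hfp q hq hqd) hc.2)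
    refine not_simple_of_pair hqd (e q) (hfn q hq hqd ⟨hq⟩).1 N ?_ Q hQ S hS
    intro htop
    rw [htop, Subgroup.index_top] at hidx
    exact absurd (hfn x hx hxd ⟨hx⟩).2 (by omega)
  have hne1 : Nat.card G ≠ 1 := fun h1 => hns (by
    have := (Nat.card_eq_one_iff_unique.mp h1).1
    infer_instance)
  obtain ⟨q, hq, hqd⟩ := Nat.exists_prime_and_dvd hne1
  obtain ⟨r, hr, hrd, hrq, hrs⟩ : ∃ r : ℕ, r.Prime ∧ r ∣ Nat.card G ∧ r ≠ q ∧ r ≠ f q := by
    by_contra hc
    push Not at hc
    apply hns
    have hs := hfp q hq hqd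
    refine hB q (f q) ((Nat.card G).factorization q) ((Nat.card G).factorization (f q)) hq hs ?_
    have hsup : (Nat.card G).primeFactors = {q, f q} := by
      ext x
      simp only [Nat.mem_primeFactors, Finset.mem_insert, Finset.mem_singleton]
      refine ⟨fun ⟨hx, hxd, _⟩ => ?_, ?_⟩
      · by_cases hxq : x = q
        · exact Or.inl hxq
        · exact Or.inr (hc x hx hxd hxq)
      · rintro (rfl | rfl)
        · exact ⟨hq, hqd, Nat.card_pos.ne'⟩
        · exact ⟨hs, hfd q hq hqd, Nat.card_pos.ne'⟩
    conv_lhs => rw [← Nat.prod_factorization_pow_eq_self (Nat.card_pos (α := G)).ne']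
    rw [Finsupp.prod, Nat.support_factorization, hsup,
      Finset.prod_pair (hfne q hq hqd).symm]
  have hsp := hfp q hq hqd
  have hsd := hfd q hq hqd
  have hfs : f (f q) = q := (hstep q hq hqd _ hsp hsd).resolve_right (fun h => hfne _ hsp hsd h)
  rcases hstep r hr hrd q hq hqd with h1 | h1
  · exact hrs h1.symm
  · rcases hstep r hr hrd (f q) hsp hsd with h2 | h2
    · exact hrq (hfs ▸ h2).symm
    · rw [hfs, ← h1] at h2
      exact hfne q hq hqd h2.symm

/-- All Sylow numbers prime powers implies solvable (given the two-prime theorem). -/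
theorem solvable_of_sylow_primePow
    (hB : ∀ (H : Type u) [Group H] [Finite H] (p q a b : ℕ), p.Prime → q.Prime →
      Nat.card H = p ^ a * q ^ b → Group.IsSolvable H) :
    ∀ (n : ℕ) (G : Type u) [Group G] [Finite G], Nat.card G ≤ n →
      (∀ (r : ℕ) [Fact r.Prime], Nat.card (Sylow r G) = 1 ∨ IsPrimePow (Nat.card (Sylow r G))) →
      Group.IsSolvable G := by
  intro n
  induction n with
  | zero => intro G _ _ h; exact absurd Nat.card_pos (not_lt.mpr h)
  | succ n ih =>
    intro G _ _ hn h
    rcases subsingleton_or_nontrivial G with hs | hnt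
    · infer_instance
    by_cases hsimp : IsSimpleGroup G
    · exact simple_case (fun p q a b => hB G p q a b) (fun r hr => @h r hr)
    obtain ⟨N, hN, hNb, hNt⟩ : ∃ N : Subgroup G, N.Normal ∧ N ≠ ⊥ ∧ N ≠ ⊤ := by
      by_contra hc
      push Not at hc
      exact hsimp ⟨fun N hN => or_iff_not_imp_left.mpr (hc N hN)⟩
    have hdiv : ∀ (r : ℕ) [Fact r.Prime], ∀ m, m ∣ Nat.card (Sylow r G) → m = 1 ∨ IsPrimePow m := by
      intro r _ m hm
      rcases h r with h1 | h1
      · left; rw [h1] at hm; exact Nat.dvd_one.mp hm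
      · exact or_iff_not_imp_left.mpr fun hm1 => h1.dvd hm hm1
    have hsub : Group.IsSolvable N := by
      refine ih N ?_ fun r _ => hdiv r _ ?_
      · have h1 : N.index * Nat.card N = Nat.card G := N.index_mul_card
        have h2 : 1 < N.index := by
          have := Subgroup.FiniteIndex.index_ne_zero (H := N)
          have := (Subgroup.index_eq_one (H := N)).not.mpr hNt
          omega
        have h3 : 0 < Nat.card N := Nat.card_pos
        nlinarith
      · rw [CfsgLib.SylowNumber.card_sylow_eq_mul (default : Sylow r G) N]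
        exact Dvd.dvd.mul_right (Dvd.intro_left _ rfl) _
    have hquot : Group.IsSolvable (G ⧸ N) := by
      refine ih (G ⧸ N) ?_ fun r _ => hdiv r _ ?_
      · have h1 : N.index * Nat.card N = Nat.card G := N.index_mul_card
        have h2 : 1 < Nat.card N := N.one_lt_card_iff_ne_bot.mpr hNb
        have h3 : 0 < N.index := Nat.pos_of_ne_zero Subgroup.FiniteIndex.index_ne_zero
        show N.index ≤ n
        nlinarith
      · rw [CfsgLib.SylowNumber.card_sylow_eq_mul (default : Sylow r G) N, mul_assoc]
        exact Dvd.intro _ rfl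
    exact Group.isSolvable_of_ker_le_range N.subtype (QuotientGroup.mk' N) (by simp)

end CfsgLib.Struct77
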