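import Cfsg.Agent.Lib.Solvable.Zipper

set_option autoImplicit false

/-!
A generalised zipper lemma: if `A ^ G = G` and the proper subgroups `H` with `A ^ H = H` do not
generate `G`, then `A` lies in a unique maximal subgroup.
-/

namespace CfsgLib.ZipperGen

open Subgroup CfsgLib.Zipper
open scoped Pointwise

universe u

variable {G : Type u} [Group G]

/-- `K` is the normal closure of `C` in `K`. -/
def Gen (C K : Subgroup G) : Prop :=
  C ≤ K ∧ ∀ L : Subgroup G, C ≤ L → L ≤ K → K ≤ normalizer (L : Set G) → L = K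

theorem gen_iff {C K : Subgroup G} (h : C ≤ K) :
    Gen C K ↔ Subgroup.normalClosure ((C.subgroupOf K : Subgroup ↥K) : Set ↥K) = ⊤ := by
  constructor
  · intro hg
    set N := Subgroup.normalClosure ((C.subgroupOf K : Subgroup ↥K) : Set ↥K) with hN
    have hle : C ≤ N.map K.subtype := fun c hc => ⟨⟨c, h hc⟩, subset_normalClosure hc, rfl⟩
    have hn : ((N.map K.subtype).subgroupOf K).Normal := by
      rw [subgroupOf, comap_map_eq_self_of_injective K.subtype_injective]
      exact normalClosure_normal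
    have := hg.2 _ hle (map_subtype_le N)
      ((normal_subgroupOf_iff_le_normalizer (map_subtype_le N)).1 hn)
    rw [← comap_map_eq_self_of_injective K.subtype_injective N, this]
    exact subgroupOf_self K
  · intro hn
    refine ⟨h, fun L hCL hLK hnor => le_antisymm hLK ?_⟩
    have hLn : (L.subgroupOf K).Normal := (normal_subgroupOf_iff_le_normalizer hLK).2 hnor
    have h2 : Subgroup.normalClosure ((C.subgroupOf K : Subgroup ↥K) : Set ↥K) ≤ L.subgroupOf K :=
      normalClosure_le_normal fun c hc => hCL hc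
    rw [hn, top_le_iff] at h2
    exact subgroupOf_eq_top.1 h2

theorem gen_self (C : Subgroup G) : Gen C C :=
  ⟨le_rfl, fun _ h1 h2 _ => le_antisymm h2 h1⟩

theorem Gen.le_of_normalized {C K L H : Subgroup G} (h : Gen C K) (hKH : K ≤ H) (hCL : C ≤ L)
    (hn : H ≤ normalizer (L : Set G)) : K ≤ L := by
  have h1 : L ⊓ K = K := h.2 _ (le_inf hCL h.1) inf_le_right (fun k hk => by
    rw [mem_normalizer_iff]
    intro x
    have h2 := mem_normalizer_iff.1 (hn (hKH hk)) x
    exact ⟨fun hx => ⟨h2.1 hx.1, K.mul_mem (K.mul_mem hk hx.2) (K.inv_mem hk)⟩,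
      fun hx => ⟨h2.2 hx.1, by
        have := K.mul_mem (K.mul_mem (K.inv_mem hk) hx.2) hk
        simpa [mul_assoc] using this⟩⟩)
  exact h1 ▸ inf_le_left

theorem Gen.trans {C K H : Subgroup G} (h : Gen C K) (h' : Gen K H) : Gen C H :=
  ⟨h.1.trans h'.1, fun L hCL hLH hn => h'.2 L (h.le_of_normalized h'.1 hCL hn) hLH hn⟩

theorem gen_sSup {C : Subgroup G} {S : Set (Subgroup G)} (hne : S.Nonempty)
    (h : ∀ K ∈ S, Gen C K) : Gen C (sSup S) := by
  obtain ⟨K₀, hK₀⟩ := hne
  exact ⟨(h K₀ hK₀).1.trans (le_sSup hK₀), fun L hCL hLS hn =>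
    le_antisymm hLS (sSup_le fun K hK => (h K hK).le_of_normalized (le_sSup hK) hCL hn)⟩

theorem Gen.smul {C K : Subgroup G} (h : Gen C K) (c : MulAut G) : Gen (c • C) (c • K) := by
  refine ⟨pointwise_smul_le_pointwise_smul_iff.2 h.1, fun L hCL hLK hn => ?_⟩
  have h1 := h.2 (c⁻¹ • L) (pointwise_smul_subset_iff.1 hCL)
    (pointwise_smul_subset_iff.2 (by rwa [inv_inv])) (fun k hk => by
      rw [mem_normalizer_iff]
      intro x
      rw [← smul_mem_pointwise_smul_iff (a := c) (S := c⁻¹ • L),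
        ← smul_mem_pointwise_smul_iff (a := c) (S := c⁻¹ • L) (x := k * x * k⁻¹), smul_inv_smul]
      have := mem_normalizer_iff.1 (hn (smul_mem_pointwise_smul k c K hk)) (c • x)
      simpa [MulAut.smul_def, map_mul, map_inv] using this)
  rw [← h1, smul_inv_smul]

/-- The proper subgroups generated by their conjugates of `C`. -/
def fam (C : Subgroup G) : Set (Subgroup G) := {K | Gen C K ∧ K ≠ ⊤}

/-- The join of `fam C`. -/
def fsup (C : Subgroup G) : Subgroup G := sSup (fam C)

theorem fsup_smul (C : Subgroup G) (c : MulAut G) : fsup (c • C) = c • fsup C := by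
  have key : ∀ (C : Subgroup G) (c : MulAut G), fsup (c • C) ≤ c • fsup C := by
    intro C c
    refine sSup_le fun K hK => ?_
    rw [subset_pointwise_smul_iff]
    refine le_sSup ⟨?_, fun h => hK.2 ?_⟩
    · have := hK.1.smul c⁻¹
      rwa [inv_smul_smul] at this
    · have hh := congrArg (fun L => c • L) h
      simp only [smul_inv_smul] at hh
      rw [hh]
      refine eq_top_iff.2 fun x _ => ?_
      rw [mem_pointwise_smul_iff_inv_smul_mem]
      exact mem_top _
  refine le_antisymm (key C c) ?_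
  rw [pointwise_smul_subset_iff]
  have := key (c • C) c⁻¹
  rwa [inv_smul_smul] at this

/-- The subnormal closure of `C` in `H`. -/
def sclos (C H : Subgroup G) : Subgroup G := sSup {K | Gen C K ∧ K ≤ H}

theorem sclos_gen {C H : Subgroup G} (h : C ≤ H) : Gen C (sclos C H) :=
  gen_sSup ⟨C, gen_self C, h⟩ fun _ hK => hK.1

theorem sclos_le (C H : Subgroup G) : sclos C H ≤ H := sSup_le fun _ hK => hK.2

theorem sclos_subnIn [Finite G] {C H : Subgroup G} (h : C ≤ H) : SubnIn (sclos C H) H := by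
  induction H using WellFoundedLT.induction with
  | ind H ih =>
    by_cases hg : Gen C H
    · have : sclos C H = H := le_antisymm (sclos_le C H) (le_sSup ⟨hg, le_rfl⟩)
      rw [this]
      exact ⟨le_rfl, by rw [subgroupOf_self]; exact .top⟩
    · obtain ⟨L, hCL, hLH, hn, hne⟩ : ∃ L, C ≤ L ∧ L ≤ H ∧ H ≤ normalizer (L : Set G) ∧ L ≠ H := by
        by_contra hno
        exact hg ⟨h, fun L h1 h2 h3 => by
          by_contra hne
          exact hno ⟨L, h1, h2, h3, hne⟩⟩
      have heq : sclos C H = sclos C L := le_antisymm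
        (sSup_le fun K hK => le_sSup ⟨hK.1, hK.1.le_of_normalized hK.2 hCL hn⟩)
        (sSup_le fun K hK => le_sSup ⟨hK.1, hK.2.trans hLH⟩)
      rw [heq]
      have h2 : (L.subgroupOf H).Normal := (normal_subgroupOf_iff_le_normalizer hLH).2 hn
      exact (ih L (lt_of_le_of_ne hLH hne) hCL).trans ⟨hLH, h2.isSubnormal⟩

theorem exists_coatom_ge [Finite G] {K : Subgroup G} (h : K ≠ ⊤) : ∃ M, IsCoatom M ∧ K ≤ M :=
  (eq_top_or_exists_le_coatom K).resolve_left h

theorem main_aux [Finite G] : ∀ (n : ℕ) (A : Subgroup G), Nat.card G - Nat.card A < n →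
    Gen A ⊤ → A ≠ ⊤ → fsup A ≠ ⊤ → ∃! M : Subgroup G, IsCoatom M ∧ A ≤ M := by
  intro n
  induction n with
  | zero => intro A h; exact absurd h (Nat.not_lt_zero _)
  | succ n ih =>
    intro A hn hA hAt hY
    set Conj : Set (Subgroup G) := {C | ∃ g : G, C = MulAut.conj g • A} with hConj
    have hcard : ∀ C ∈ Conj, Nat.card C = Nat.card A := by
      rintro C ⟨g, rfl⟩
      exact (Nat.card_congr (Subgroup.equivSMul (MulAut.conj g) A).toEquiv).symm
    have hGC : ∀ C ∈ Conj, Gen C ⊤ := by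
      rintro C ⟨g, rfl⟩
      have h := hA.smul (MulAut.conj g)
      have ht : MulAut.conj g • (⊤ : Subgroup G) = ⊤ := eq_top_iff.2 fun x _ => by
        rw [mem_pointwise_smul_iff_inv_smul_mem]; exact mem_top _
      rwa [ht] at h
    have hYC : ∀ C ∈ Conj, fsup C ≠ ⊤ := by
      rintro C ⟨g, rfl⟩ h
      apply hY
      rw [fsup_smul] at h
      refine eq_top_iff.2 fun x _ => ?_
      rw [← smul_mem_pointwise_smul_iff (a := MulAut.conj g), h]
      exact mem_top _
    -- subgroups above a conjugate, generated by its conjugates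
    have ihC : ∀ C ∈ Conj, ∀ A' : Subgroup G, C < A' → A' ≠ ⊤ → fsup A' ≠ ⊤ →
        ∀ V W : Subgroup G, IsCoatom V → IsCoatom W → A' ≤ V → A' ≤ W → V = W := by
      intro C hC A' hlt hA't hY' V W hV hW hAV hAW
      have hlt' : Nat.card A < Nat.card A' := by
        rw [← hcard C hC]
        refine lt_of_le_of_ne (Subgroup.card_le_of_le hlt.le) fun hEq => ?_
        exact hlt.ne (Subgroup.eq_of_le_of_card_ge hlt.le hEq.ge)
      have hle : Nat.card A' ≤ Nat.card G := Subgroup.card_le_card_group A'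
      have hg : Gen A' ⊤ := ⟨le_top, fun L hL _ hn' =>
        (hGC C hC).2 L (hlt.le.trans hL) le_top hn'⟩
      exact (ih A' (by omega) hg hA't hY').unique ⟨hV, hAV⟩ ⟨hW, hAW⟩
    have ihGen : ∀ C ∈ Conj, ∀ A' : Subgroup G, C < A' → Gen C A' → A' ≠ ⊤ →
        ∀ V W : Subgroup G, IsCoatom V → IsCoatom W → A' ≤ V → A' ≤ W → V = W := by
      intro C hC A' hlt hg hA't
      refine ihC C hC A' hlt hA't ?_
      intro h
      apply hYC C hC
      refine top_le_iff.1 (h ▸ sSup_le fun K hK => le_sSup ⟨hg.trans hK.1, hK.2⟩)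
    by_cases hYA : fsup A = A
    · -- every proper overgroup contains `A` subnormally
      have hself : ∀ C ∈ Conj, fsup C = C := by
        rintro C ⟨g, rfl⟩
        rw [fsup_smul, hYA]
      have hsub : ∀ C ∈ Conj, ∀ V : Subgroup G, V ≠ ⊤ → C ≤ V → SubnIn C V := by
        intro C hC V hV hCV
        have h1 : sclos C V = C := by
          refine le_antisymm ?_ (sclos_gen hCV).1
          refine (le_sSup ⟨sclos_gen hCV, fun h => hV ?_⟩ : sclos C V ≤ fsup C).trans (hself C hC).le
          exact top_le_iff.1 (h ▸ sclos_le C V)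
        have := sclos_subnIn hCV
        rwa [h1] at this
      let U : Set (Subgroup G) := {V | A ≤ V ∧ V ≠ ⊤}
      let S : Subgroup G → Set (Subgroup G) :=
        fun V => {B | (∃ g : G, B = MulAut.conj g • A) ∧ SubnIn B V}
      have hAC : A ∈ Conj := ⟨1, by simp⟩
      have h1 : ∀ V ∈ U, A ∈ S V := fun V hV => ⟨hAC, hsub A hAC V hV.2 hV.1⟩
      obtain ⟨M, hMU, hM⟩ := exists_unique_maximal A U ⟨A, le_rfl, hAt⟩ S (fun V B => Iff.rfl) h1
        (fun V hV W _ B hB hBV => ⟨hB.1, hsub B hB.1 V hV.2 hBV⟩)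
        (fun V hV W hW => by
          set J : Subgroup G := sSup (S V ∩ S W)
          have hAJ : A ≤ J := le_sSup ⟨h1 V hV, h1 W hW⟩
          refine ⟨normalizer (J : Set G), ⟨hAJ.trans le_normalizer, fun htop => ?_⟩, le_rfl⟩
          have hJ : J = ⊤ := hA.2 J hAJ le_top (by rw [htop])
          exact hV.2 (top_le_iff.1 (hJ ▸ sSup_le fun B hB => hB.1.2.1)))
      obtain ⟨M', hM', hMM'⟩ := exists_coatom_ge hMU.2
      have hM'eq : M' = M := le_antisymm (hM M' ⟨hMU.1.trans hMM', hM'.1⟩) hMM'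
      subst hM'eq
      refine ⟨M', ⟨hM', hMU.1⟩, fun V hV => ?_⟩
      rcases (hM V ⟨hV.2, hV.1.1⟩).eq_or_lt with h | h
      · exact h
      · exact absurd (hV.1.2 _ h) hM'.1
    -- `fsup A` is strictly larger
    have hAC : A ∈ Conj := ⟨1, by simp⟩
    have hAfam : ∀ C ∈ Conj, C ∈ fam C := fun C hC => ⟨gen_self C, fun h => hAt (by
      obtain ⟨g, rfl⟩ := hC
      refine eq_top_iff.2 fun x _ => ?_
      rw [← smul_mem_pointwise_smul_iff (a := MulAut.conj g), h]
      exact mem_top _)⟩
    have hgenY : ∀ C ∈ Conj, Gen C (fsup C) := fun C hC =>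
      gen_sSup ⟨C, hAfam C hC⟩ fun K hK => hK.1
    have hstrict : ∀ C ∈ Conj, C < fsup C := by
      intro C hC
      refine lt_of_le_of_ne (le_sSup (hAfam C hC)) fun hEq => hYA ?_
      obtain ⟨g, rfl⟩ := hC
      rw [fsup_smul] at hEq
      exact (smul_left_cancel (MulAut.conj g) hEq).symm
    have hex : ∀ C ∈ Conj, ∃ M, IsCoatom M ∧ fsup C ≤ M := fun C hC => exists_coatom_ge (hYC C hC)
    choose! Mx hMx hMxle using hex
    have hMuniq : ∀ C ∈ Conj, ∀ V : Subgroup G, IsCoatom V → fsup C ≤ V → V = Mx C :=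
      fun C hC V hV hle => ihGen C hC (fsup C) (hstrict C hC) (hgenY C hC) (hYC C hC) V (Mx C)
        hV (hMx C hC) hle (hMxle C hC)
    have hCMx : ∀ C ∈ Conj, C ≤ Mx C := fun C hC => (hstrict C hC).le.trans (hMxle C hC)
    have hnor : ∀ C ∈ Conj, normalizer (C : Set G) ≤ Mx C := by
      intro C hC
      have h1 : normalizer (C : Set G) ≤ normalizer (fsup C : Set G) := fun x hx => by
        apply mem_normalizer_of_smul_eq
        rw [← fsup_smul, smul_eq_of_mem_normalizer hx]
      refine h1.trans ?_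
      obtain ⟨R, hR, hle⟩ := exists_coatom_ge (K := normalizer (fsup C : Set G)) (fun htop => by
        have := (hGC C hC).2 (fsup C) (hstrict C hC).le le_top (by rw [htop])
        exact hYC C hC this)
      rwa [hMuniq C hC R hR (le_normalizer.trans hle)] at hle
    have hred : ∀ C ∈ Conj, ∀ V : Subgroup G, IsCoatom V → C ≤ V → V ≠ Mx C →
        sclos C V = C := by
      intro C hC V hV hCV hne
      by_contra hne'
      have hg := sclos_gen hCV
      have hlt : C < sclos C V := lt_of_le_of_ne hg.1 (Ne.symm hne')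
      have ht : sclos C V ≠ ⊤ := fun h => hV.1 (top_le_iff.1 (h ▸ sclos_le C V))
      exact hne (ihGen C hC _ hlt hg ht V (Mx C) hV (hMx C hC) (sclos_le C V)
        ((le_sSup ⟨hg, ht⟩ : sclos C V ≤ fsup C).trans (hMxle C hC)))
    have hclosed : ∀ C ∈ Conj, ∀ w : G, MulAut.conj w • C ∈ Conj := by
      rintro C ⟨g, rfl⟩ w
      exact ⟨w * g, by rw [map_mul, mul_smul]⟩
    have hMsmul : ∀ C ∈ Conj, ∀ w : G, Mx (MulAut.conj w • C) = MulAut.conj w • Mx C := by
      intro C hC w
      refine (hMuniq _ (hclosed C hC w) _ ?_ ?_).symm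
      · exact (OrderIso.isCoatom_iff (MulAut.conj w).mapSubgroup (Mx C)).2 (hMx C hC)
      · rw [fsup_smul]
        exact pointwise_smul_le_pointwise_smul_iff.2 (hMxle C hC)
    -- two conjugates in two maximal subgroups
    have hpair : ∀ C ∈ Conj, ∀ E ∈ Conj, C ≠ E → ∀ V W : Subgroup G, IsCoatom V → IsCoatom W →
        V ≠ W → C ≤ V → C ≤ W → E ≤ V → E ≤ W → E ≤ Mx C ∧ C ≤ Mx E ∧ Mx C ≠ Mx E := by
      intro C hC E hE hne V W hV hW hVW hCV hCW hEV hEW
      have hlt : C < C ⊔ E := lt_of_le_of_ne le_sup_left fun h => by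
        have hEC : E ≤ C := h ▸ le_sup_right
        exact hne (Subgroup.eq_of_le_of_card_ge hEC (by rw [hcard C hC, hcard E hE])).symm
      have ht : C ⊔ E ≠ ⊤ := fun h => hV.1 (top_le_iff.1 (h ▸ sup_le hCV hEV))
      have hnot : fsup (C ⊔ E) = ⊤ := by
        by_contra h
        exact hVW (ihC C hC _ hlt ht h V W hV hW (sup_le hCV hEV) (sup_le hCW hEW))
      -- members are joins of the two subnormal closures
      have hmem : ∀ H ∈ fam (C ⊔ E), H = sclos C H ⊔ sclos E H := by
        intro H hH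
        have hCH : C ≤ H := le_sup_left.trans hH.1.1
        have hEH : E ≤ H := le_sup_right.trans hH.1.1
        set Q := sclos C H ⊔ sclos E H with hQ
        have hQs : SubnIn Q H := by
          have := subnIn_sSup (V := H) (S := {sclos C H, sclos E H}) (by
            rintro U (rfl | rfl)
            · exact sclos_subnIn hCH
            · exact sclos_subnIn hEH)
          rwa [sSup_pair] at this
        by_contra hne'
        have hne'' : Q.subgroupOf H ≠ ⊤ := fun e =>
          hne' (le_antisymm (subgroupOf_eq_top.1 e) hQs.1)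
        obtain ⟨K, hKn, hQK, hKlt⟩ := hQs.2.lt_normal.resolve_left hne''
        have hle : C ⊔ E ≤ K.map H.subtype :=
          (sup_le_sup (sclos_gen hCH).1 (sclos_gen hEH).1).trans fun x hx =>
            ⟨⟨x, hQs.1 hx⟩, hQK hx, rfl⟩
        have hn' : H ≤ normalizer ((K.map H.subtype : Subgroup G) : Set G) := by
          refine (normal_subgroupOf_iff_le_normalizer (map_subtype_le K)).1 ?_
          rwa [subgroupOf, comap_map_eq_self_of_injective H.subtype_injective]
        have := hH.1.2 _ hle (map_subtype_le K) hn'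
        apply hKlt.ne
        rw [← comap_map_eq_self_of_injective H.subtype_injective K, this]
        exact subgroupOf_self H
      have hfix : ∀ (X Z : Subgroup G), X ∈ Conj → ∀ H : Subgroup G, H ≠ ⊤ → X ≤ H → Z ≤ H →
          ¬ Z ≤ Mx X → sclos X H = X := by
        intro X Z hX H hH hXH hZH hZ
        obtain ⟨R, hR, hHR⟩ := exists_coatom_ge hH
        have hRne : R ≠ Mx X := fun h => hZ (h ▸ hZH.trans hHR)
        refine le_antisymm ?_ (sclos_gen hXH).1
        refine (sSup_le fun K hK => le_sSup ⟨hK.1, hK.2.trans hHR⟩ : sclos X H ≤ sclos X R).trans ?_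
        exact (hred X hX R hR (hXH.trans hHR) hRne).le
      have hYle : ∀ X ∈ Conj, ∀ H : Subgroup G, H ≠ ⊤ → X ≤ H → sclos X H ≤ Mx X := by
        intro X hX H hH hXH
        exact (le_sSup ⟨sclos_gen hXH, fun h => hH (top_le_iff.1 (h ▸ sclos_le X H))⟩ :
          sclos X H ≤ fsup X).trans (hMxle X hX)
      have hbound : ∀ R : Subgroup G, R ≠ ⊤ → (∀ H ∈ fam (C ⊔ E), H ≤ R) → False := by
        intro R hR h
        exact hR (top_le_iff.1 (hnot ▸ sSup_le h))
      have h1 : E ≤ Mx C := by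
        by_contra hEM
        by_cases hCE : C ≤ Mx E
        · refine hbound (Mx E) (hMx E hE).1 fun H hH => ?_
          have hCH : C ≤ H := le_sup_left.trans hH.1.1
          have hEH : E ≤ H := le_sup_right.trans hH.1.1
          rw [hmem H hH, hfix C E hC H hH.2 hCH hEH hEM]
          exact sup_le hCE (hYle E hE H hH.2 hEH)
        · refine hbound V hV.1 fun H hH => ?_
          have hCH : C ≤ H := le_sup_left.trans hH.1.1
          have hEH : E ≤ H := le_sup_right.trans hH.1.1
          rw [hmem H hH, hfix C E hC H hH.2 hCH hEH hEM, hfix E C hE H hH.2 hEH hCH hCE]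
          exact sup_le hCV hEV
      have h2 : C ≤ Mx E := by
        by_contra hCE
        refine hbound (Mx C) (hMx C hC).1 fun H hH => ?_
        have hCH : C ≤ H := le_sup_left.trans hH.1.1
        have hEH : E ≤ H := le_sup_right.trans hH.1.1
        rw [hmem H hH, hfix E C hE H hH.2 hEH hCH hCE]
        exact sup_le (hYle C hC H hH.2 hCH) h1
      refine ⟨h1, h2, fun h => ?_⟩
      refine hbound (Mx C) (hMx C hC).1 fun H hH => ?_
      have hCH : C ≤ H := le_sup_left.trans hH.1.1
      have hEH : E ≤ H := le_sup_right.trans hH.1.1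
      rw [hmem H hH]
      exact sup_le (hYle C hC H hH.2 hCH) (h ▸ hYle E hE H hH.2 hEH)
    have hsubn : ∀ C ∈ Conj, ∀ V : Subgroup G, IsCoatom V → C ≤ V → V ≠ Mx C → SubnIn C V := by
      intro C hC V hV hCV hne
      have := sclos_subnIn hCV
      rwa [hred C hC V hV hCV hne] at this
    refine ⟨Mx A, ⟨hMx A hAC, hCMx A hAC⟩, fun M hM => ?_⟩
    by_contra hMne
    obtain ⟨hMc, hAM⟩ := hM
    -- the conjugates subnormal in a maximal subgroup
    let RW : Subgroup G → Set (Subgroup G) := fun W => {B | B ∈ Conj ∧ B ≤ W ∧ Mx B ≠ W}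
    have hRWsub : ∀ W : Subgroup G, IsCoatom W → ∀ B ∈ RW W, SubnIn B W :=
      fun W hW B hB => hsubn B hB.1 W hW hB.2.1 (Ne.symm hB.2.2)
    have hRWcl : ∀ W : Subgroup G, ∀ B ∈ RW W, ∀ w ∈ W, MulAut.conj w • B ∈ RW W := by
      intro W B hB w hw
      have hWw : MulAut.conj w • W = W := smul_eq_of_mem_normalizer (le_normalizer hw)
      refine ⟨hclosed B hB.1 w, ?_, fun h => hB.2.2 ?_⟩
      · conv_rhs => rw [← hWw]
        exact pointwise_smul_le_pointwise_smul_iff.2 hB.2.1
      · rw [hMsmul B hB.1 w] at h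
        conv_rhs at h => rw [← hWw]
        exact smul_left_cancel _ h
    -- a second conjugate in both `M` and `Mx A`
    obtain ⟨E, hE, hEA, hEM, hEX⟩ : ∃ E ∈ Conj, E ≠ A ∧ E ≤ M ∧ E ≤ Mx A := by
      have hAR : A ∈ RW M := ⟨hAC, hAM, Ne.symm hMne⟩
      by_cases hone : RW M = {A}
      · exfalso
        have h := le_normalizer_sSup_of_smul (hRWcl M)
        rw [hone, sSup_singleton] at h
        rcases (h.trans (hnor A hAC)).eq_or_lt with he | hlt
        · exact hMne he
        · exact (hMx A hAC).1 (hMc.2 _ hlt)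
      · have hss : ({A} : Set (Subgroup G)) ⊂ RW M :=
          lt_of_le_of_ne (Set.singleton_subset_iff.2 hAR) (Ne.symm hone)
        obtain ⟨X, hX, hXA, hXn⟩ :=
          exists_normalizes_sSup M (RW M) {A} (hRWsub M hMc) (hRWcl M) hss
        rw [sSup_singleton] at hXn
        exact ⟨X, hX.1, hXA, hX.2.1, hXn.trans (hnor A hAC)⟩
    -- a pair of maximal subgroups with most common conjugates
    let cs : Subgroup G → Subgroup G → Set (Subgroup G) := fun V W => {B | B ∈ Conj ∧ B ≤ V ∧ B ≤ W}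
    let Pairs : Set (Subgroup G × Subgroup G) := {q | IsCoatom q.1 ∧ IsCoatom q.2 ∧ q.1 ≠ q.2}
    obtain ⟨⟨V₀, W₀⟩, ⟨hV₀, hW₀, hVW₀⟩, hmax⟩ := Set.exists_max_image Pairs
      (fun q => (cs q.1 q.2).ncard) (Set.toFinite _) ⟨(M, Mx A), hMc, hMx A hAC, hMne⟩
    set P := cs V₀ W₀ with hP
    have htwo : ∃ C₁ ∈ P, ∃ C₂ ∈ P, C₁ ≠ C₂ := by
      have h2 : 2 ≤ P.ncard := by
        refine le_trans ?_ (hmax (M, Mx A) ⟨hMc, hMx A hAC, hMne⟩)
        calc 2 = ({A, E} : Set (Subgroup G)).ncard := (Set.ncard_pair (Ne.symm hEA)).symm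
          _ ≤ (cs M (Mx A)).ncard := Set.ncard_le_ncard (by
            rintro B (rfl | rfl)
            · exact ⟨hAC, hAM, hCMx _ hAC⟩
            · exact ⟨hE, hEM, hEX⟩) (Set.toFinite _)
      exact (Set.one_lt_ncard_iff (Set.toFinite _)).1 h2 |>.elim
        fun a ⟨b, ha, hb, hab⟩ => ⟨a, ha, b, hb, hab⟩
    obtain ⟨C₁, hC₁, C₂, hC₂, h12⟩ := htwo
    have hmut : ∀ B ∈ P, ∀ C ∈ P, B ≤ Mx C := by
      intro B hB C hC
      by_cases h : C = B
      · rw [h]; exact hCMx B hB.1
      · exact (hpair C hC.1 B hB.1 h V₀ W₀ hV₀ hW₀ hVW₀ hC.2.1 hC.2.2 hB.2.1 hB.2.2).1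
    have hinj : ∀ B ∈ P, ∀ C ∈ P, B ≠ C → Mx B ≠ Mx C := fun B hB C hC h =>
      (hpair B hB.1 C hC.1 h V₀ W₀ hV₀ hW₀ hVW₀ hB.2.1 hB.2.2 hC.2.1 hC.2.2).2.2
    have hfull : ∀ V W : Subgroup G, IsCoatom V → IsCoatom W → V ≠ W → P ⊆ cs V W → cs V W = P :=
      fun V W hV hW hne hle => (Set.eq_of_subset_of_ncard_le hle
        (hmax (V, W) ⟨hV, hW, hne⟩) (Set.toFinite _)).symm
    set J := sSup P with hJ
    obtain ⟨R, hR, hNR⟩ := exists_coatom_ge (K := normalizer (J : Set G)) (fun htop => by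
      have hJt := (hGC C₁ hC₁.1).2 J (le_sSup hC₁) le_top (by rw [htop])
      exact hV₀.1 (top_le_iff.1 (hJt ▸ sSup_le fun B hB => hB.2.1)))
    have hkey : ∀ E' ∈ P, R = Mx E' := by
      intro E' hE'
      set W := Mx E' with hW
      have hWc : IsCoatom W := hMx E' hE'.1
      by_contra hRW'
      let S₀ : Set (Subgroup G) := {B | B ∈ P ∧ Mx B ≠ W}
      have hS₀ : S₀ ⊆ RW W := fun B hB => ⟨hB.1.1, hmut B hB.1 E' hE', hB.2⟩
      obtain ⟨C, hC, hCE⟩ : ∃ C ∈ P, C ≠ E' := by
        by_cases h : C₁ = E'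
        · exact ⟨C₂, hC₂, fun h' => h12 (h.trans h'.symm)⟩
        · exact ⟨C₁, hC₁, h⟩
      have hCS₀ : C ∈ S₀ := ⟨hC, hinj C hC E' hE' hCE⟩
      have hperm : ∀ w ∈ W, w ∈ normalizer ((sSup S₀ : Subgroup G) : Set G) →
          w ∈ normalizer (J : Set G) := by
        intro w hw hwn
        have hWw : MulAut.conj w • W = W := smul_eq_of_mem_normalizer (le_normalizer hw)
        set C' := MulAut.conj w • C with hC'
        have hC'le : C' ≤ sSup S₀ := by
          rw [← smul_eq_of_mem_normalizer hwn]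
          exact pointwise_smul_le_pointwise_smul_iff.2 (le_sSup hCS₀)
        have hC'P : C' ∈ P := ⟨hclosed C hC.1 w,
          hC'le.trans (sSup_le fun B hB => hB.1.2.1), hC'le.trans (sSup_le fun B hB => hB.1.2.2)⟩
        have hne : Mx C' ≠ W := by
          rw [hMsmul C hC.1 w]
          intro h
          conv_rhs at h => rw [← hWw]
          exact hCS₀.2 (smul_left_cancel _ h)
        have h1 : cs (Mx C) W = P := hfull _ _ (hMx C hC.1) hWc hCS₀.2
          fun B hB => ⟨hB.1, hmut B hB C hC, hmut B hB E' hE'⟩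
        have h2 : cs (Mx C') W = P := hfull _ _ (hMx C' hC'P.1) hWc hne
          fun B hB => ⟨hB.1, hmut B hB C' hC'P, hmut B hB E' hE'⟩
        have hcl : ∀ U ∈ P, MulAut.conj w • U ∈ P := by
          intro U hU
          rw [← h2]
          rw [← h1] at hU
          refine ⟨hclosed U hU.1 w, ?_, ?_⟩
          · rw [hMsmul C hC.1 w]
            exact pointwise_smul_le_pointwise_smul_iff.2 hU.2.1
          · rw [← hWw]
            exact pointwise_smul_le_pointwise_smul_iff.2 hU.2.2
        apply mem_normalizer_of_smul_eq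
        have hle : MulAut.conj w • J ≤ J := by
          rw [pointwise_smul_subset_iff]
          refine sSup_le fun U hU => ?_
          rw [← pointwise_smul_subset_iff]
          exact le_sSup (hcl U hU)
        exact Subgroup.eq_of_le_of_card_ge hle
          (Nat.card_congr (Subgroup.equivSMul (MulAut.conj w) J).toEquiv).le
      by_cases hall : S₀ = RW W
      · have h := le_normalizer_sSup_of_smul (hRWcl W)
        rw [← hall] at h
        have hWR : W ≤ R := fun w hw => hNR (hperm w hw (h hw))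
        rcases hWR.eq_or_lt with he | hlt
        · exact hRW' he.symm
        · exact hR.1 (hWc.2 _ hlt)
      · obtain ⟨F, hF, hFS, hFn⟩ := exists_normalizes_sSup W (RW W) S₀ (hRWsub W hWc) (hRWcl W)
          (lt_of_le_of_ne hS₀ hall)
        have hFR : F ≤ R := fun x hx => hNR (hperm x (hF.2.1 hx) (hFn hx))
        have h3 : cs R W = P := hfull _ _ hR hWc hRW' fun B hB =>
          ⟨hB.1, (le_sSup hB).trans (le_normalizer.trans hNR), hmut B hB E' hE'⟩
        exact hFS ⟨h3 ▸ ⟨hF.1, hFR, hF.2.1⟩, hF.2.2⟩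
    exact hinj C₁ hC₁ C₂ hC₂ h12 ((hkey C₁ hC₁).symm.trans (hkey C₂ hC₂))

end CfsgLib.ZipperGen
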